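import Groth.Agent.Goren.Ring
import Groth.Agent.GrLCLib.Basic
import Mathlib.Algebra.Polynomial.Laurent
import Mathlib.RingTheory.Localization.Algebra

/-!
The Gorenstein property at a prime of a graded ring follows from the one at its homogeneous core.
-/

set_option autoImplicit false
set_option linter.unusedSectionVars false
set_option linter.style.haveILetI false
universe u

open scoped Classical LaurentPolynomial
open DirectSum Groth.Agent.GrLCLib

noncomputable section

namespace Groth.Agent.GrGor

section loc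

variable {A T : Type u} [CommRing A] [CommRing T] [Algebra A T] (M : Submonoid A) [IsLocalization M T]

include M in
lemma gorenstein_comap_iff (Q : Ideal T) [Q.IsPrime] :
    LocCoh.IsGorensteinLocalRing (Localization.AtPrime (Q.comap (algebraMap A T))) ↔
      LocCoh.IsGorensteinLocalRing (Localization.AtPrime Q) := by
  haveI := IsLocalization.isLocalization_isLocalization_atPrime_isLocalization M (Localization.AtPrime Q) Q
  exact Goren.gorenstein_equiv_iff (IsLocalization.algEquiv (Q.comap (algebraMap A T)).primeCompl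
    (Localization.AtPrime (Q.comap (algebraMap A T))) (Localization.AtPrime Q)).toRingEquiv

include M in
lemma gorenstein_of_disjoint (hT : LocCoh.IsGorensteinRing T) (q : Ideal A) [q.IsPrime]
    (hq : Disjoint (M : Set A) q) : LocCoh.IsGorensteinLocalRing (Localization.AtPrime q) := by
  haveI := IsLocalization.isPrime_of_isPrime_disjoint M T q inferInstance hq
  have h := (gorenstein_comap_iff M (q.map (algebraMap A T))).2 (hT.isGorensteinLocalRing_localization _)
  exact (Goren.gorenstein_equiv_iff (IsLocalization.ringEquivOfRingEquiv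
    (M := ((q.map (algebraMap A T)).comap (algebraMap A T)).primeCompl) (T := q.primeCompl)
    (Localization.AtPrime ((q.map (algebraMap A T)).comap (algebraMap A T))) (Localization.AtPrime q) (RingEquiv.refl A)
    (by
      ext x
      simp [Ideal.mem_primeCompl_iff, ← Ideal.mem_comap,
        IsLocalization.under_map_of_isPrime_disjoint M T ‹q.IsPrime› hq]))).1 h

lemma gorenstein_equiv_prime {A' : Type u} [CommRing A'] (e : A ≃+* A') (P : Ideal A') [P.IsPrime] :
    LocCoh.IsGorensteinLocalRing (Localization.AtPrime (P.comap (e : A →+* A'))) ↔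
      LocCoh.IsGorensteinLocalRing (Localization.AtPrime P) :=
  Goren.gorenstein_equiv_iff (IsLocalization.ringEquivOfRingEquiv (M := (P.comap (e : A →+* A')).primeCompl)
    (T := P.primeCompl) (Localization.AtPrime (P.comap (e : A →+* A'))) (Localization.AtPrime P) e (by
      ext x
      simp only [Submonoid.mem_map, Ideal.mem_primeCompl_iff, Ideal.mem_comap]
      exact ⟨fun ⟨y, hy, hyx⟩ => hyx ▸ hy, fun hx => ⟨e.symm x, by simpa using hx, by simp⟩⟩))

end loc

variable {R : Type u} [CommRing R] [IsNoetherianRing R]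

/-- A prime of the Laurent ring over a Gorenstein point is a Gorenstein point. -/
theorem gorenstein_laurent (Q : Ideal R[T;T⁻¹]) [Q.IsPrime] (c : Ideal R) [c.IsPrime]
    (hc : Q.comap LaurentPolynomial.C = c) (h : LocCoh.IsGorensteinLocalRing (Localization.AtPrime c)) :
    LocCoh.IsGorensteinLocalRing (Localization.AtPrime Q) := by
  haveI : IsNoetherianRing (Localization.AtPrime c) := IsLocalization.isNoetherianRing c.primeCompl _ inferInstance
  have hR : LocCoh.IsGorensteinRing (Localization.AtPrime c) :=
    { isGorensteinLocalRing_localization := fun p _ => by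
        refine (gorenstein_comap_iff c.primeCompl p).1 ?_
        have hle : p.comap (algebraMap R (Localization.AtPrime c)) ≤ c := fun x hx => by
          by_contra hxc
          exact Ideal.IsPrime.ne_top ‹p.IsPrime› (p.eq_top_of_isUnit_mem hx
            (IsLocalization.map_units (Localization.AtPrime c) (⟨x, hxc⟩ : c.primeCompl)))
        obtain ⟨N, hN⟩ := h.exists_hasInjectiveDimensionLT
        have hinj : CategoryTheory.HasInjectiveDimensionLE
            (ModuleCat.of (Localization.AtPrime c) (Localization.AtPrime c)) N :=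
          CategoryTheory.hasInjectiveDimensionLT_of_ge _ N (N + 1) (by omega)
        exact (gorenstein_comap_iff c.primeCompl p).2 (Goren.gorenstein_atPrime hinj p).1 }
  let Q₁ : Ideal (Polynomial R) := Q.comap (algebraMap (Polynomial R) R[T;T⁻¹])
  have hq : Disjoint ((c.primeCompl.map (Polynomial.C (R := R))) : Set (Polynomial R)) Q₁ := by
    rw [Set.disjoint_left]
    rintro _ ⟨s, hs, rfl⟩ hmem
    refine hs ?_
    rw [← hc]
    simpa [Q₁] using hmem
  letI : Algebra (Polynomial R) (Polynomial (Localization.AtPrime c)) := Polynomial.algebra R (Localization.AtPrime c)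
  haveI := Polynomial.isLocalization c.primeCompl (Localization.AtPrime c)
  have h1 := gorenstein_of_disjoint (c.primeCompl.map (Polynomial.C (R := R)))
    (T := Polynomial (Localization.AtPrime c)) (Goren.isGorensteinRing_polynomial _ hR) Q₁ hq
  exact (gorenstein_comap_iff (Submonoid.powers (Polynomial.X : Polynomial R)) Q).1 h1

variable (𝒜 : ℤ → AddSubgroup R) [GradedRing 𝒜] (s : ℤ)

/-- The coaction of the multiplicative group, twisted by `s`. -/
def coact (hs : s * s = 1) : R →+* R[T;T⁻¹] :=
  (DirectSum.toSemiring (fun d => (AddMonoidHom.mk' (fun a : 𝒜 d => (AddMonoidAlgebra.single (s * d) (a : R) : R[T;T⁻¹]))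
      (fun a b => by simp [AddMonoidAlgebra.single_add])))
    (show (AddMonoidAlgebra.single (s * 0) ((1 : R)) : R[T;T⁻¹]) = 1 by rw [mul_zero]; rfl)
    (fun {i j} a b => show (AddMonoidAlgebra.single (s * (i + j)) ((a : R) * (b : R)) : R[T;T⁻¹]) = _ from
      by rw [mul_add]; exact (AddMonoidAlgebra.single_mul_single ..).symm)).comp
    (DirectSum.decomposeRingEquiv 𝒜).toRingHom

variable {s} {hs : s * s = 1}

lemma coact_of_mem {d : ℤ} {x : R} (hx : x ∈ 𝒜 d) :
    coact 𝒜 s hs x = AddMonoidAlgebra.single (s * d) x := by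
  simp only [coact, RingHom.comp_apply, RingEquiv.toRingHom_eq_coe, RingEquiv.coe_toRingHom]
  rw [show DirectSum.decomposeRingEquiv 𝒜 x = DirectSum.of (fun i => 𝒜 i) d ⟨x, hx⟩ from
    DirectSum.decompose_of_mem 𝒜 hx, DirectSum.toSemiring_of]
  rfl

/-- The automorphism of the Laurent ring extending the coaction. -/
def twist (hs : s * s = 1) : R[T;T⁻¹] →+* R[T;T⁻¹] :=
  AddMonoidAlgebra.liftNCRingHom (coact 𝒜 s hs) (AddMonoidAlgebra.of R ℤ) fun _ _ => Commute.all _ _

lemma twist_single (n : ℤ) (r : R) :
    twist 𝒜 hs (AddMonoidAlgebra.single n r) = coact 𝒜 s hs r * AddMonoidAlgebra.single n (1 : R) := by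
  rw [twist, AddMonoidAlgebra.liftNCRingHom_single]
  rfl

lemma twist_C (r : R) : twist 𝒜 hs (LaurentPolynomial.C r) = coact 𝒜 s hs r := by
  refine (twist_single 𝒜 0 r).trans ?_
  rw [← AddMonoidAlgebra.one_def, mul_one]

lemma twist_comp {t : ℤ} {ht : t * t = 1} (hst : s + t = 0) :
    (twist 𝒜 hs).comp (twist 𝒜 ht) = RingHom.id _ := by
  refine AddMonoidAlgebra.ringHom_ext (fun r => ?_) (fun n => ?_)
  · show twist 𝒜 hs (twist 𝒜 ht (AddMonoidAlgebra.single 0 r)) = AddMonoidAlgebra.single 0 r
    induction r using DirectSum.Decomposition.inductionOn 𝒜 with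
    | zero => simp
    | @homogeneous d x =>
      rw [twist_single, coact_of_mem 𝒜 x.2, AddMonoidAlgebra.single_mul_single, twist_single, mul_one,
        coact_of_mem 𝒜 x.2, AddMonoidAlgebra.single_mul_single, mul_one, add_zero, ← add_mul, hst, zero_mul]
    | add a b ha hb => simp only [AddMonoidAlgebra.single_add, map_add, ha, hb]
  · show twist 𝒜 hs (twist 𝒜 ht (AddMonoidAlgebra.single n 1)) = AddMonoidAlgebra.single n 1
    rw [twist_single, map_one, one_mul, twist_single, map_one, one_mul]

/-- Gorenstein at the homogeneous core implies Gorenstein at the prime. -/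
theorem gorenstein_of_core (P : Ideal R) [P.IsPrime] [(Ideal.homogeneousCore 𝒜 P).toIdeal.IsPrime]
    (h : LocCoh.IsGorensteinLocalRing (Localization.AtPrime (Ideal.homogeneousCore 𝒜 P).toIdeal)) :
    LocCoh.IsGorensteinLocalRing (Localization.AtPrime P) := by
  let B := R[T;T⁻¹]
  haveI : IsNoetherianRing B :=
    IsLocalization.isNoetherianRing (Submonoid.powers (Polynomial.X : Polynomial R)) B inferInstance
  have h1 : (1 : ℤ) * 1 = 1 := one_mul 1
  have h2 : (-1 : ℤ) * -1 = 1 := by norm_num
  let Φ : B ≃+* B := RingEquiv.ofRingHom (twist 𝒜 h1) (twist 𝒜 h2)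
    (twist_comp 𝒜 (by norm_num)) (twist_comp 𝒜 (by norm_num))
  let π : B →+* (R ⧸ P)[T;T⁻¹] := AddMonoidAlgebra.mapRingHom ℤ (Ideal.Quotient.mk P)
  let Q₀ : Ideal B := RingHom.ker π
  haveI : Q₀.IsPrime := RingHom.ker_isPrime π
  have hC : Q₀.comap LaurentPolynomial.C = P := by
    ext r
    show π (AddMonoidAlgebra.single 0 r) = 0 ↔ _
    rw [AddMonoidAlgebra.mapRingHom_single, AddMonoidAlgebra.single_eq_zero, Ideal.Quotient.eq_zero_iff_mem]
  have hcoeff : ∀ (r : R) (g : ℤ), (π (coact 𝒜 1 h1 r)).coeff g = Ideal.Quotient.mk P (pr 𝒜 g r) := by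
    intro r g
    induction r using DirectSum.Decomposition.inductionOn 𝒜 with
    | zero => simp
    | @homogeneous d x =>
      rw [coact_of_mem 𝒜 x.2, one_mul, AddMonoidAlgebra.mapRingHom_single, AddMonoidAlgebra.coeff_single]
      rcases eq_or_ne d g with rfl | hne
      · rw [Finsupp.single_eq_same, pr_of_mem 𝒜 x.2]
      · rw [Finsupp.single_eq_of_ne hne.symm, pr_of_mem_ne 𝒜 x.2 hne, map_zero]
    | add a b ha hb => simp [map_add, ha, hb]
  have hψ : (Q₀.comap (Φ : B →+* B)).comap LaurentPolynomial.C = (Ideal.homogeneousCore 𝒜 P).toIdeal := by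
    ext r
    show π (twist 𝒜 h1 (LaurentPolynomial.C r)) = 0 ↔ _
    rw [twist_C]
    constructor
    · intro hr
      rw [← sum_pr 𝒜 r]
      refine Submodule.sum_mem _ fun g _ => Ideal.mem_homogeneousCore_of_homogeneous_of_mem ⟨g, pr_mem 𝒜 g r⟩ ?_
      rw [← Ideal.Quotient.eq_zero_iff_mem, ← hcoeff, hr]
      rfl
    · intro hr
      ext g
      rw [hcoeff]
      exact Ideal.Quotient.eq_zero_iff_mem.2
        (Ideal.toIdeal_homogeneousCore_le 𝒜 P ((Ideal.homogeneousCore 𝒜 P).isHomogeneous g hr))
  have hB := (gorenstein_equiv_prime Φ Q₀).1 (gorenstein_laurent _ _ hψ h)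
  haveI : Module.Free R B := Module.Free.of_equiv (AddMonoidAlgebra.coeffLinearEquiv R (M := ℤ) (S := R)).symm
  have h3 : Q₀.comap (algebraMap R B) = P := by
    rw [show algebraMap R B = LaurentPolynomial.C from RingHom.ext fun r => (LaurentPolynomial.C_eq_algebraMap r).symm]
    exact hC
  have h4 := ((Goren.atPrime_flat_iff (A := R) Q₀).1 hB).1
  exact (Goren.gorenstein_equiv_iff (IsLocalization.ringEquivOfRingEquiv
    (M := (Q₀.comap (algebraMap R B)).primeCompl) (T := P.primeCompl)
    (Localization.AtPrime (Q₀.comap (algebraMap R B))) (Localization.AtPrime P) (RingEquiv.refl R)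
    (by ext x; simp [Ideal.mem_primeCompl_iff, ← h3]))).1 h4

end Groth.Agent.GrGor
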