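import Groth.Agent.GrLCVeronese.Basic
import Groth.Agent.GrLCLib.AInv

/-!
The irrelevant ideal of a Veronese subring is the *maximal one.
-/

set_option autoImplicit false
set_option linter.unusedSectionVars false
set_option backward.isDefEq.respectTransparency false
universe u

open scoped Classical
open DirectSum Groth.Agent.GrLCLib Groth.Agent.GrLCVeronese

noncomputable section

namespace Groth.Agent.GrGor

variable {R : Type u} [CommRing R] {𝒜 : ℤ → AddSubgroup R} [GradedRing 𝒜]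
  {R' : Type u} [CommRing R'] {𝒜' : ℤ → AddSubgroup R'} [GradedRing 𝒜'] (D : Datum 𝒜 𝒜')

include D

lemma hpos_veronese (hpos : ∀ n : ℤ, n < 0 → 𝒜 n = ⊥) : ∀ n : ℤ, n < 0 → 𝒜' n = ⊥ := fun n hn =>
  (AddSubgroup.eq_bot_iff_forall _).2 fun x hx => D.hφ (((hpos (n * D.q)
    (mul_neg_of_neg_of_pos hn (Int.natCast_pos.2 D.hq))).le (D.map_mem hx)).trans (map_zero D.φ).symm)

lemma le_irr (hpos : ∀ n : ℤ, n < 0 → 𝒜 n = ⊥) (h0 : IsField (GrLC.deg0 𝒜)) {J : HomogeneousIdeal 𝒜'}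
    (hJ : J ≠ ⊤) : J ≤ irr 𝒜' := by
  intro x hx
  have h00 : pr 𝒜' 0 x = 0 := by
    by_contra hne
    have hm := D.map_mem (pr_mem 𝒜' 0 x)
    rw [zero_mul] at hm
    obtain ⟨b, hb⟩ := h0.mul_inv_cancel (a := ⟨D.φ (pr 𝒜' 0 x), hm⟩)
      (fun h => hne (D.hφ ((congrArg Subtype.val h).trans (map_zero D.φ).symm)))
    obtain ⟨b', -, hbb⟩ := D.exists_preimage (j := 0) (r := (b : R)) (by rw [zero_mul]; exact b.2)
    have h1 : pr 𝒜' 0 x * b' = 1 := D.hφ (by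
      rw [map_mul, hbb, map_one]
      exact congrArg Subtype.val hb)
    refine hJ ((HomogeneousIdeal.eq_top_iff J).2 ((Ideal.eq_top_iff_one _).2 ?_))
    rw [← h1]
    exact Ideal.mul_mem_right _ _ (J.isHomogeneous 0 hx)
  show x ∈ (irr 𝒜').toIdeal
  rw [← sum_pr 𝒜' x]
  refine Ideal.sum_mem _ fun j _ => ?_
  rcases lt_trichotomy j 0 with hj | rfl | hj
  · rw [show pr 𝒜' j x = 0 from (hpos_veronese D hpos j hj).le (pr_mem 𝒜' j x)]; exact zero_mem _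
  · rw [h00]; exact zero_mem _
  · exact Ideal.subset_span (Set.mem_iUnion₂.2 ⟨j, hj, pr_mem 𝒜' j x⟩)

lemma irr_ne_top [Nontrivial R] (hpos : ∀ n : ℤ, n < 0 → 𝒜 n = ⊥) : irr 𝒜' ≠ ⊤ := by
  intro h
  have h1 : (1 : R') = 0 := (pr_of_mem 𝒜' (SetLike.one_mem_graded 𝒜')).symm.trans
    (mem_span_pos_pr_zero (hpos_veronese D hpos) (show (1 : R') ∈ (irr 𝒜').toIdeal by rw [(HomogeneousIdeal.eq_top_iff _).1 h]; exact Submodule.mem_top))
  have := congrArg D.φ h1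
  rw [map_one, map_zero] at this
  exact one_ne_zero this

theorem isStarLocal_irr [Nontrivial R] (hpos : ∀ n : ℤ, n < 0 → 𝒜 n = ⊥) (h0 : IsField (GrLC.deg0 𝒜)) :
    GrLC.IsStarLocal 𝒜' (irr 𝒜') :=
  ⟨⟨irr_ne_top D hpos, fun K hK => by_contra fun h => not_le_of_gt hK (le_irr D hpos h0 h)⟩,
    fun n hn => ((le_irr D hpos h0 hn.1).eq_or_lt).resolve_right fun h => irr_ne_top D hpos (hn.2 _ h)⟩

end Groth.Agent.GrGor
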