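import Groth.Agent.GrGor.Veronese
import Groth.Agent.GrGor.Irr

/-!
If a Veronese subring of a standard graded Gorenstein ring is Gorenstein then `q` divides the `a`-invariant.
-/

set_option autoImplicit false
set_option linter.unusedSectionVars false
set_option linter.style.haveILetI false
set_option backward.isDefEq.respectTransparency false
set_option backward.isDefEq.respectTransparency.types false
universe u

open scoped Classical
open DirectSum IsLocalRing Groth.Agent.GrLCLib Groth.Agent.GrLCVeronese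

noncomputable section

namespace Groth.Agent.GrGor

variable {R : Type u} [CommRing R] {𝒜 : ℤ → AddSubgroup R} [GradedRing 𝒜]

lemma span_one_pow_le (j : ℕ) :
    Ideal.span ((𝒜 1 : AddSubgroup R) : Set R) ^ j ≤ Ideal.span ((𝒜 j : AddSubgroup R) : Set R) := by
  induction j with
  | zero =>
    rw [pow_zero, Ideal.one_eq_top]
    exact fun x _ => by
      simpa using Ideal.mul_mem_left _ x (Ideal.subset_span (SetLike.one_mem_graded 𝒜) :
        (1 : R) ∈ Ideal.span ((𝒜 ((0 : ℕ) : ℤ) : AddSubgroup R) : Set R))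
  | succ j ih =>
    rw [pow_succ]
    refine (Ideal.mul_mono_left ih).trans ?_
    rw [Ideal.span_mul_span', Ideal.span_le]
    rintro _ ⟨x, hx, y, hy, rfl⟩
    exact Ideal.subset_span (by rw [Nat.cast_add, Nat.cast_one]; exact SetLike.mul_mem_graded hx hy)

/-- If the degree `k + 1` piece is a line then so is the degree one piece. -/
theorem line_one [Nontrivial R] (h0 : IsField (GrLC.deg0 𝒜)) {m : HomogeneousIdeal 𝒜}
    (hgam : ∀ (x : R) (N : ℕ), (∀ r ∈ m.toIdeal ^ N, r * x = 0) → x = 0)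
    (hm1 : m.toIdeal = Ideal.span ((𝒜 1 : AddSubgroup R) : Set R)) (k : ℕ)
    (hpm : ∀ x ∈ 𝒜 (k + 1 : ℕ), x ∈ m.toIdeal) {w : R} (hw : w ∈ 𝒜 (k + 1 : ℕ))
    (hline : ∀ x ∈ 𝒜 (k + 1 : ℕ), ∃ c ∈ 𝒜 0, x = c * w) :
    ∃ b ∈ 𝒜 1, ∀ a ∈ 𝒜 1, ∃ c ∈ 𝒜 0, a = c * b := by
  have hkill : ∀ x : R, x * w = 0 → x = 0 := fun x hx => hgam x (k + 1) fun r hr => by
    rw [hm1] at hr
    rw [mul_comm]
    refine (Ideal.span_le.2 ?_ : _ ≤ LinearMap.ker (LinearMap.mulLeft R x)) (span_one_pow_le (k + 1) hr)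
    intro y hy
    obtain ⟨c, -, rfl⟩ := hline y hy
    show x * (c * w) = 0
    rw [mul_left_comm, hx, mul_zero]
  have hdeg : (1 : ℤ) + k = ((k + 1 : ℕ) : ℤ) := by omega
  obtain ⟨b, hb, v, hv, hbv⟩ : ∃ b ∈ 𝒜 1, ∃ v ∈ 𝒜 (k : ℤ), b * v ≠ 0 := by
    by_contra hcon
    push Not at hcon
    have hall : ∀ x ∈ m.toIdeal, ∀ r : R, pr 𝒜 (k + 1 : ℕ) (r * x) = 0 := by
      intro x hx
      rw [hm1] at hx
      induction hx using Submodule.span_induction with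
      | mem b hb =>
        intro r
        rw [mul_comm, ← smul_eq_mul b r, pr_smul 𝒜 𝒜 hb, smul_eq_mul]
        refine hcon b hb _ ?_
        have := pr_mem 𝒜 (((k + 1 : ℕ) : ℤ) - 1) r
        rwa [show ((k + 1 : ℕ) : ℤ) - 1 = k by omega] at this ⊢
      | zero => exact fun r => by rw [mul_zero, map_zero]
      | add a b _ _ ha hb => exact fun r => by rw [mul_add, map_add, ha, hb, add_zero]
      | smul c u _ hu => exact fun r => by rw [smul_eq_mul, ← mul_assoc]; exact hu _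
    have h1 := hall w (hpm w hw) 1
    rw [one_mul, pr_of_mem 𝒜 hw] at h1
    exact one_ne_zero (α := R) (hkill 1 (by rw [h1, mul_zero]))
  obtain ⟨c₀, hc₀, hc₀'⟩ := hline _ (hdeg ▸ SetLike.mul_mem_graded hb hv)
  obtain ⟨⟨d, hd⟩, hd'⟩ := h0.mul_inv_cancel (a := ⟨c₀, hc₀⟩) (fun h => hbv (by
    rw [hc₀', show c₀ = 0 from congrArg Subtype.val h, zero_mul]))
  have hd'' : c₀ * d = 1 := congrArg Subtype.val hd'
  refine ⟨b, hb, fun a ha => ?_⟩
  obtain ⟨c, hc, hc'⟩ := hline _ (hdeg ▸ SetLike.mul_mem_graded ha hv)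
  have h1 : c₀ * a = c * b := sub_eq_zero.1 (hkill _ (by linear_combination a * (-hc₀') + b * hc'))
  refine ⟨d * c, by simpa using SetLike.mul_mem_graded (show d ∈ 𝒜 0 from hd) hc, ?_⟩
  linear_combination d * h1 - a * hd''

variable [IsNoetherianRing R] {R' : Type u} [CommRing R'] {𝒜' : ℤ → AddSubgroup R'} [GradedRing 𝒜'] (D : Datum 𝒜 𝒜')
  (m : HomogeneousIdeal 𝒜) (m' : HomogeneousIdeal 𝒜') (n : ℕ) (a : ℤ)
  (hpos : ∀ k : ℤ, k < 0 → 𝒜 k = ⊥) (hm : GrLC.IsStarLocal 𝒜 m)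
  (hmsp : m.toIdeal = Ideal.span (⋃ k ∈ Set.Ioi (0 : ℤ), (𝒜 k : Set R)))
  (hm'sp : m'.toIdeal = Ideal.span (⋃ k ∈ Set.Ioi (0 : ℤ), (𝒜' k : Set R')))
  (hn : ringKrullDim R = n) (hG : LocCoh.IsGorensteinRing R)
  (I : GrLC.StarInjRes 𝒜 𝒜) (ha : GrLC.endDeg (I.Hgr m n) = ((a : WithTop ℤ) : WithBot (WithTop ℤ)))

include hpos hm'sp in
lemma eq_zero_of_low {K : Ideal R'} (hK : K ≤ m'.toIdeal) {e : ℤ} (he : e < D.q) {x : R} (hx : x ∈ 𝒜 e)
    (hxK : x ∈ K.map D.φ) : x = 0 := by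
  have key : ∀ x ∈ K.map D.φ, ∀ r : R, pr 𝒜 e (r * x) = 0 := by
    intro x hx
    have hx' : x ∈ Ideal.span (D.φ '' (⋃ k ∈ Set.Ioi (0 : ℤ), (𝒜' k : Set R'))) := by
      rw [← Ideal.map_span, ← hm'sp]
      exact Ideal.map_mono hK hx
    clear hx
    induction hx' using Submodule.span_induction with
    | mem b hb =>
      obtain ⟨z, hz, rfl⟩ := hb
      obtain ⟨j, hj, hz⟩ := Set.mem_iUnion₂.1 hz
      intro r
      rw [mul_comm, ← smul_eq_mul (D.φ z) r, pr_smul 𝒜 𝒜 (D.map_mem hz), smul_eq_mul]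
      have hlt : e - j * (D.q : ℤ) < 0 := by
        have : 1 * (D.q : ℤ) ≤ j * D.q := mul_le_mul_of_nonneg_right (Set.mem_Ioi.1 hj) (Int.natCast_nonneg _)
        omega
      rw [show pr 𝒜 (e - j * D.q) r = 0 from (hpos _ hlt).le (pr_mem 𝒜 _ r), mul_zero]
    | zero => exact fun r => by rw [mul_zero, map_zero]
    | add a b _ _ ha hb => exact fun r => by rw [mul_add, map_add, ha, hb, add_zero]
    | smul c u _ hu => exact fun r => by rw [smul_eq_mul, ← mul_assoc]; exact hu _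
  have := key x hxK 1
  rwa [one_mul, pr_of_mem 𝒜 hx] at this

omit [IsNoetherianRing R] [GradedRing 𝒜] in
lemma prime_eq_of_pow_le {m : Ideal R} (hmax : m.IsMaximal) {K : Ideal R} {N : ℕ} (hN : m ^ N ≤ K) {P : Ideal R}
    (hP : P.IsPrime) (hle : K ≤ P) : P = m :=
  (hmax.eq_of_le hP.ne_top fun _ hx => hP.mem_of_pow_mem N (hle (hN (Ideal.pow_mem_pow hx N)))).symm

include hpos hm in
/-- A homogeneous element outside a homogeneous ideal with socle in degree `s` is pushed into degree `s`. -/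
theorem exists_push {K : Ideal R} (hK : K.IsHomogeneous 𝒜)
    (hmsp : m.toIdeal = Ideal.span (⋃ k ∈ Set.Ioi (0 : ℤ), (𝒜 k : Set R)))
    {s : ℤ} {u : R} (hu : u ∈ 𝒜 s) (hupos : ∀ r ∈ m.toIdeal, r * u ∈ K)
    (hhigh : ∀ e, s < e → ∀ w ∈ 𝒜 e, w ∈ K) (hsoc : ∀ z : R, (∀ r ∈ m.toIdeal, r * z ∈ K) → ∃ c : R, z - c * u ∈ K)
    {i : ℤ} {w : R} (hw : w ∈ 𝒜 i) (hwK : w ∉ K) : ∃ r ∈ 𝒜 (s - i), r * w ∉ K := by
  let Sdeg : Set ℤ := {d | ∃ r ∈ 𝒜 d, r * w ∉ K}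
  have hne : Sdeg.Nonempty := ⟨0, 1, SetLike.one_mem_graded 𝒜, by rwa [one_mul]⟩
  have hbdd : BddAbove Sdeg := ⟨s - i, fun d ⟨r, hr, hrw⟩ => by
    by_contra hlt
    exact hrw (hhigh (d + i) (by omega) _ (SetLike.mul_mem_graded hr hw))⟩
  obtain ⟨r, hr, hrw⟩ : sSup Sdeg ∈ Sdeg := Int.csSup_mem hne hbdd
  set d := sSup Sdeg
  have hsocr : ∀ v ∈ m.toIdeal, v * (r * w) ∈ K := by
    intro v hv
    rw [← sum_pr 𝒜 v, Finset.sum_mul]
    refine Ideal.sum_mem _ fun j _ => ?_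
    rcases le_or_gt j 0 with hj | hj
    · rcases eq_or_lt_of_le hj with rfl | hj
      · have h0m : pr 𝒜 0 v ∈ m.toIdeal := m.isHomogeneous 0 hv
        rw [hmsp] at h0m
        rw [show pr 𝒜 0 v = 0 from (pr_of_mem 𝒜 (pr_mem 𝒜 0 v)).symm.trans (mem_span_pos_pr_zero hpos h0m), zero_mul]
        exact zero_mem _
      · rw [show pr 𝒜 j v = 0 from (hpos j hj).le (pr_mem 𝒜 j v), zero_mul]; exact zero_mem _
    · by_contra hvK
      rw [← mul_assoc] at hvK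
      have : j + d ≤ d := le_csSup hbdd ⟨_, SetLike.mul_mem_graded (pr_mem 𝒜 j v) hr, hvK⟩
      omega
  obtain ⟨c, hc⟩ := hsoc _ hsocr
  have hrwd : r * w ∈ 𝒜 (d + i) := SetLike.mul_mem_graded hr hw
  have hdeg : d + i = s := by
    by_contra hne'
    refine hrw ?_
    have h1 := hK (d + i) hc
    rw [show (DirectSum.decompose 𝒜 (r * w - c * u) (d + i) : R) = pr 𝒜 (d + i) (r * w - c * u) from rfl,
      map_sub, pr_of_mem 𝒜 hrwd, mul_comm c u, ← smul_eq_mul u c, pr_smul 𝒜 𝒜 hu, smul_eq_mul] at h1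
    have h2 : u * pr 𝒜 (d + i - s) c ∈ K := by
      rcases lt_or_gt_of_ne (sub_ne_zero.2 hne') with hneg | hposd
      · rw [show pr 𝒜 (d + i - s) c = 0 from (hpos _ hneg).le (pr_mem 𝒜 _ c), mul_zero]; exact zero_mem _
      · rw [mul_comm]
        exact hupos _ (mem_of_pos hpos hm hposd (pr_mem 𝒜 _ c))
    exact (Submodule.sub_mem_iff_left _ h2).1 h1
  exact ⟨r, by rwa [show s - i = d by omega], hrw⟩

include hpos hm hmsp hm'sp hn hG I ha in
theorem dvd_of_gorenstein [Nontrivial R] [m'.toIdeal.IsMaximal] (h0 : IsField (GrLC.deg0 𝒜))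
    (hstd : Ideal.span (⋃ k ∈ Set.Ioi (0 : ℤ), (𝒜 k : Set R)) = Ideal.span ((𝒜 1 : AddSubgroup R) : Set R))
    (hR1 : 2 ≤ Module.finrank (GrLC.deg0 𝒜) (GrLC.comp 𝒜 𝒜 1)) (h1n : 1 ≤ n)
    (hG' : LocCoh.IsGorensteinRing R') : (D.q : ℤ) ∣ a := by
  haveI := isNoetherianRing D
  haveI hmax : m.toIdeal.IsMaximal := isMaximal_of_isStarLocal hpos hm
  obtain ⟨st⟩ := exists_stage D m m' n a hpos hm hmsp hm'sp hn hG I ha
  obtain ⟨u, N, hu, huK, hhigh, hupos, hsoc, hN, hKtop⟩ := stage_core D m m' n a hpos hm hmsp hm'sp hn st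
  set K := st.K.map D.φ with hKdef
  have hK : K.IsHomogeneous 𝒜 := isHomogeneous_map D st.hK
  set s : ℤ := a + st.S
  by_contra hndvd
  set ρ : ℤ := a % D.q
  have hρ0 : 0 < ρ := lt_of_le_of_ne (Int.emod_nonneg a D.q_ne) fun h => hndvd (Int.dvd_of_emod_eq_zero h.symm)
  have hρq : ρ < D.q := Int.emod_lt_of_pos a (Int.natCast_pos.2 D.hq)
  have hsρ : (D.q : ℤ) ∣ s - ρ := by
    rw [show s - ρ = (a - a % D.q) + st.S by simp only [s, ρ]; ring]
    exact dvd_add (Int.dvd_self_sub_emod) st.dvd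
  -- the artinian Gorenstein Veronese quotient
  have hK' : st.K = K.comap D.φ := (comap_map_eq D st.K).symm
  haveI : Nontrivial (R' ⧸ st.K) := Ideal.Quotient.nontrivial_iff.2 fun h =>
    Ideal.IsPrime.ne_top (inferInstance : m'.toIdeal.IsPrime) (top_le_iff.1 (h ▸ st.le_irr))
  have hm'le : ∀ x ∈ m'.toIdeal, D.φ x ∈ m.toIdeal := by
    intro x hx
    rw [hm'sp] at hx
    refine (Ideal.span_le.2 ?_ : _ ≤ m.toIdeal.comap D.φ) hx
    intro z hz
    obtain ⟨j, hj, hz⟩ := Set.mem_iUnion₂.1 hz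
    exact mem_of_pos hpos hm (mul_pos hj (Int.natCast_pos.2 D.hq)) (D.map_mem hz)
  have hN' : m'.toIdeal ^ N ≤ st.K := by
    rw [hK', ← Ideal.map_le_iff_le_comap, Ideal.map_pow]
    exact le_trans (Ideal.pow_right_mono (Ideal.map_le_iff_le_comap.2 hm'le) N) hN
  haveI : (m'.toIdeal.map (Ideal.Quotient.mk st.K)).IsMaximal :=
    Ideal.IsMaximal.map_of_surjective_of_ker_le Ideal.Quotient.mk_surjective (by rw [Ideal.mk_ker]; exact st.le_irr)
  have hprimes' : ∀ M : Ideal (R' ⧸ st.K), M.IsPrime → M = m'.toIdeal.map (Ideal.Quotient.mk st.K) := fun M hM => by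
    rw [← Ideal.map_comap_of_surjective _ Ideal.Quotient.mk_surjective M,
      prime_eq_of_pow_le (R := R') inferInstance hN'
        (hM.comap (Ideal.Quotient.mk st.K)) (fun w hw => by
          rw [Ideal.mem_comap, Ideal.Quotient.eq_zero_iff_mem.2 hw]; exact zero_mem _)]
  haveI : IsLocalRing (R' ⧸ st.K) :=
    IsLocalRing.of_unique_max_ideal ⟨_, inferInstance, fun M hM => hprimes' M hM.isPrime⟩
  have hdimB : ringKrullDim (R' ⧸ st.K) = 0 := by
    haveI : Ring.KrullDimLE 0 (R' ⧸ st.K) := Ring.krullDimLE_zero_iff.2 fun P hP => by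
      rw [hprimes' P hP]; infer_instance
    exact ringKrullDimZero_iff_ringKrullDim_eq_zero.1 inferInstance
  have hGB : LocCoh.IsGorensteinLocalRing (R' ⧸ st.K) := by
    haveI := (st.gor' hG').isGorensteinLocalRing_localization (maximalIdeal (R' ⧸ st.K))
    exact Goren.isGorenstein_of_equiv (A := Localization.AtPrime (maximalIdeal (R' ⧸ st.K)))
      (IsLocalization.atUnits (R' ⧸ st.K) (maximalIdeal (R' ⧸ st.K)).primeCompl
        (fun z hz => IsLocalRing.notMem_maximalIdeal.1 hz)).symm.toRingEquiv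
  obtain ⟨σ, hσ0, hσm, hσ⟩ := (Goren.gorenstein_iff_socSimple (R' ⧸ st.K) hdimB).1 hGB
  have hkill : ∀ {w : R}, w ∈ 𝒜 (s - ρ) → ∀ {w' : R'}, D.φ w' = w → Ideal.Quotient.mk st.K w' ∈ Ideal.span {σ} := by
    intro w hw w' hww
    refine hσ _ fun x hx => ?_
    obtain ⟨x, rfl⟩ := Ideal.Quotient.mk_surjective x
    have hxm : x ∈ m'.toIdeal := by
      rw [hprimes' _ (maximalIdeal.isMaximal _).isPrime] at hx
      obtain ⟨z, hz, hzx⟩ := (Ideal.mem_map_iff_of_surjective _ Ideal.Quotient.mk_surjective).1 hx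
      have := Ideal.Quotient.eq.1 hzx
      have h2 := sub_mem hz (st.le_irr this)
      rwa [sub_sub_cancel] at h2
    rw [← map_mul, Ideal.Quotient.eq_zero_iff_mem, hK', Ideal.mem_comap, map_mul, hww]
    rw [← sum_pr 𝒜' x, map_sum, Finset.sum_mul]
    refine Ideal.sum_mem _ fun j _ => ?_
    rcases le_or_gt j 0 with hj | hj
    · rcases eq_or_lt_of_le hj with rfl | hj
      · have h0m : pr 𝒜' 0 x ∈ m'.toIdeal := m'.isHomogeneous 0 hxm
        rw [hm'sp] at h0m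
        rw [show pr 𝒜' 0 x = 0 from (pr_of_mem 𝒜' (pr_mem 𝒜' 0 x)).symm.trans
          (mem_span_pos_pr_zero (hpos_veronese D hpos) h0m), map_zero, zero_mul]
        exact zero_mem _
      · rw [show pr 𝒜' j x = 0 from (hpos_veronese D hpos j hj).le (pr_mem 𝒜' j x), map_zero, zero_mul]
        exact zero_mem _
    · refine hhigh (j * D.q + (s - ρ)) ?_ _ (SetLike.mul_mem_graded (D.map_mem (pr_mem 𝒜' j x)) hw)
      have : 1 * (D.q : ℤ) ≤ j * D.q := mul_le_mul_of_nonneg_right hj (Int.natCast_nonneg _)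
      omega
  obtain ⟨y₀, hy₀, hy⟩ : ∃ y₀ ∈ 𝒜 (s - ρ), ∀ y ∈ 𝒜 (s - ρ), ∃ c : R, y - c * y₀ ∈ K := by
    by_cases hall : ∀ y ∈ 𝒜 (s - ρ), y ∈ K
    · exact ⟨0, zero_mem _, fun y hy => ⟨0, by simpa using hall y hy⟩⟩
    push Not at hall
    obtain ⟨y₀, hy₀, hy₀K⟩ := hall
    obtain ⟨y₀', -, hyy₀⟩ := D.exists_preimage (j := (s - ρ) / D.q) (r := y₀) (by rw [Int.ediv_mul_cancel hsρ]; exact hy₀)
    obtain ⟨c₀, hc₀⟩ := Ideal.mem_span_singleton'.1 (hkill hy₀ hyy₀)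
    obtain ⟨v, hv⟩ : IsUnit c₀ := by
      by_contra h
      refine hy₀K ?_
      rw [← hyy₀]
      refine Ideal.mem_map_of_mem _ (Ideal.Quotient.eq_zero_iff_mem.1 ?_)
      rw [← hc₀]
      exact hσm c₀ ((IsLocalRing.mem_maximalIdeal _).2 h)
    refine ⟨y₀, hy₀, fun y hy => ?_⟩
    obtain ⟨y', -, hyy⟩ := D.exists_preimage (j := (s - ρ) / D.q) (r := y) (by rw [Int.ediv_mul_cancel hsρ]; exact hy)
    obtain ⟨c₁, hc₁⟩ := Ideal.mem_span_singleton'.1 (hkill hy hyy)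
    obtain ⟨c, hc⟩ := Ideal.Quotient.mk_surjective (c₁ * (↑v⁻¹ : R' ⧸ st.K))
    refine ⟨D.φ c, ?_⟩
    rw [← hyy, ← hyy₀, ← map_mul, ← map_sub]
    refine Ideal.mem_map_of_mem _ (Ideal.Quotient.eq.1 ?_)
    rw [map_mul, hc, ← hc₀, ← hc₁, ← hv, mul_assoc, ← mul_assoc (↑v⁻¹ : R' ⧸ st.K), Units.inv_mul, one_mul]
  -- pairing with degree `ρ`
  have hlam : ∀ x ∈ 𝒜 ρ, ∃ c ∈ 𝒜 0, x * y₀ - c * u ∈ K := by
    intro x hx
    have hxy : x * y₀ ∈ 𝒜 s := by
      have := SetLike.mul_mem_graded hx hy₀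
      rwa [add_sub_cancel] at this
    obtain ⟨c, hc⟩ := hsoc (x * y₀) fun r hr => by
      rw [← sum_pr 𝒜 r, Finset.sum_mul]
      refine Ideal.sum_mem _ fun j _ => ?_
      rcases le_or_gt j 0 with hj | hj
      · rcases eq_or_lt_of_le hj with rfl | hj
        · have h0m : pr 𝒜 0 r ∈ m.toIdeal := m.isHomogeneous 0 hr
          rw [hmsp] at h0m
          rw [show pr 𝒜 0 r = 0 from (pr_of_mem 𝒜 (pr_mem 𝒜 0 r)).symm.trans (mem_span_pos_pr_zero hpos h0m), zero_mul]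
          exact zero_mem _
        · rw [show pr 𝒜 j r = 0 from (hpos j hj).le (pr_mem 𝒜 j r), zero_mul]; exact zero_mem _
      · exact hhigh (j + s) (by omega) _ (SetLike.mul_mem_graded (pr_mem 𝒜 j r) hxy)
    refine ⟨pr 𝒜 0 c, pr_mem 𝒜 0 c, ?_⟩
    have h2 := hK s hc
    rw [show (DirectSum.decompose 𝒜 (x * y₀ - c * u) s : R) = pr 𝒜 s (x * y₀ - c * u) from rfl,
      map_sub, pr_of_mem 𝒜 hxy, mul_comm c u, ← smul_eq_mul u c, pr_smul 𝒜 𝒜 hu, smul_eq_mul, sub_self, mul_comm u] at h2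
    exact h2
  have hlow : ∀ x ∈ 𝒜 ρ, x ∈ K → x = 0 := fun x hx hxK => eq_zero_of_low D m' hpos hm'sp st.le_irr hρq hx hxK
  have hnd : ∀ x ∈ 𝒜 ρ, x * y₀ ∈ K → x = 0 := by
    intro x hx hxy
    by_contra hx0
    obtain ⟨r, hr, hrx⟩ := exists_push m hpos hm hK hmsp hu hupos hhigh hsoc hx (fun h => hx0 (hlow x hx h))
    obtain ⟨c, hc⟩ := hy r hr
    refine hrx ?_
    rw [show r * x = (r - c * y₀) * x + c * (x * y₀) by ring]
    exact add_mem (Ideal.mul_mem_right _ _ hc) (Ideal.mul_mem_left _ _ hxy)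
  obtain ⟨k, hk⟩ : ∃ k : ℕ, ρ = ((k + 1 : ℕ) : ℤ) := ⟨(ρ - 1).toNat, by omega⟩
  obtain ⟨w, hw, hline⟩ : ∃ w ∈ 𝒜 ρ, ∀ x ∈ 𝒜 ρ, ∃ c ∈ 𝒜 0, x = c * w := by
    by_cases hall : ∀ x ∈ 𝒜 ρ, x = 0
    · exact ⟨0, zero_mem _, fun x hx => ⟨0, zero_mem _, by rw [hall x hx, zero_mul]⟩⟩
    push Not at hall
    obtain ⟨z, hz, hz0⟩ := hall
    obtain ⟨c₂, hc₂, hzc⟩ := hlam z hz
    obtain ⟨⟨d, hd⟩, hd'⟩ := h0.mul_inv_cancel (a := ⟨c₂, hc₂⟩) (fun h => hz0 (hnd z hz (by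
      rw [show c₂ = 0 from congrArg Subtype.val h, zero_mul, sub_zero] at hzc
      exact hzc)))
    have hd'' : c₂ * d = 1 := congrArg Subtype.val hd'
    refine ⟨z, hz, fun x hx => ?_⟩
    obtain ⟨c₁, hc₁, hxc⟩ := hlam x hx
    have hcd : c₁ * d ∈ 𝒜 0 := by simpa using SetLike.mul_mem_graded hc₁ (show d ∈ 𝒜 0 from hd)
    refine ⟨c₁ * d, hcd, sub_eq_zero.1 (hnd _ (sub_mem hx (by simpa using SetLike.mul_mem_graded hcd hz)) ?_)⟩
    rw [show (x - c₁ * d * z) * y₀ = (x * y₀ - c₁ * u) - c₁ * d * (z * y₀ - c₂ * u) + c₁ * (1 - c₂ * d) * u by ring,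
      hd'', sub_self, mul_zero, zero_mul, add_zero]
    exact sub_mem hxc (Ideal.mul_mem_left _ _ hzc)
  have hgam : ∀ (x : R) (N : ℕ), (∀ r ∈ m.toIdeal ^ N, r * x = 0) → x = 0 := by
    intro x N hx
    haveI : LocCoh.IsCohenMacaulayRing R :=
      { isCohenMacaulayLocalRing_localization := fun p _ =>
          haveI := hG.isGorensteinLocalRing_localization p
          Goren.isCohenMacaulay (Localization.AtPrime p) }
    have hvan : ∀ e, Van I m 0 e := fun e =>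
      van_of_subsingleton I m (subsingleton_H_of_lt_height (I := m.toIdeal) (isStarLocal_ne_top hm)
        (by rw [height_eq m n hpos hm hn]; exact_mod_cast h1n)) e
    have hx' : x ∈ GrLC.gam m.toIdeal R := ⟨N, fun r hr => hx r hr⟩
    refine I.ε_injective ?_
    rw [map_zero, ← sum_pr 𝒜 x, map_sum]
    refine Finset.sum_eq_zero fun g _ => ?_
    exact (Submodule.mem_bot R).1 (hvan g _ (I.ε_grHom g _ (pr_mem _ g _))
      ⟨map_mem_gam I.ε (homog_gam 𝒜 m _ hx' g), GrLCLib.d_ε I _⟩)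
  rw [hk] at hw hline
  obtain ⟨b, hb, hb'⟩ := line_one h0 hgam (hmsp.trans hstd) k
    (fun x hx => mem_of_pos hpos hm (by omega) hx) hw hline
  have hle : Module.finrank (GrLC.deg0 𝒜) (GrLC.comp 𝒜 𝒜 1) ≤ 1 := by
    refine finrank_le_one ⟨b, hb⟩ fun v => ?_
    obtain ⟨c, hc, hcv⟩ := hb' v.1 v.2
    exact ⟨⟨c, hc⟩, Subtype.ext hcv.symm⟩
  omega

end Groth.Agent.GrGor
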