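import Groth.Agent.Goren.Rees
import Mathlib.RingTheory.Regular.Flat
import Mathlib.RingTheory.Length

/-!
`Ext` from a module killed by a regular sequence: `Ext^n(W, M) = Hom(W, M / (x) M)`.
-/

set_option autoImplicit false
universe u

open CategoryTheory Abelian RingTheory.Sequence
open scoped Pointwise

noncomputable section

namespace Groth.Agent.GrGor

variable {A : Type u} [CommRing A] {W : Type u} [AddCommGroup W] [Module A W]
variable {M Q : Type u} [AddCommGroup M] [Module A M] [AddCommGroup Q] [Module A Q] {x : A}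

section step

variable (hreg : IsSMulRegular M x) (π : M →ₗ[A] Q) (hπs : Function.Surjective π)
  (hπ : ∀ m, π m = 0 ↔ ∃ y, m = x • y) (hW : ∀ w : W, x • w = 0)

include hW in
lemma comp_f_eq_zero {i : ℕ} (a : Ext (ModuleCat.of A W) (ModuleCat.of A M) i) :
    a.comp (Ext.mk₀ (Goren.mulSeq x π hπ).f) (add_zero i) = 0 := by
  rw [show (Goren.mulSeq x π hπ).f = x • 𝟙 (ModuleCat.of A M) from ModuleCat.hom_ext rfl,
    ← Ext.smul_eq_comp_mk₀, Goren.smul_ext_eq_zero hW]

include hreg hπs hπ hW in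
lemma subsingleton_ext_succ {i : ℕ} (h : Subsingleton (Ext (ModuleCat.of A W) (ModuleCat.of A Q) i)) :
    Subsingleton (Ext (ModuleCat.of A W) (ModuleCat.of A M) (i + 1)) :=
  subsingleton_of_forall_eq 0 fun a => by
    obtain ⟨b, rfl⟩ := Ext.covariant_sequence_exact₁ _ (Goren.mulSeq_shortExact hreg π hπs hπ) a
      (comp_f_eq_zero π hπ hW a) rfl
    haveI := h
    rw [Subsingleton.elim b 0, Ext.zero_comp]

include hreg hπs hπ hW in
lemma ext_shift {i : ℕ} (h : Subsingleton (Ext (ModuleCat.of A W) (ModuleCat.of A M) i)) :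
    Nonempty (Ext (ModuleCat.of A W) (ModuleCat.of A Q) i ≃ₗ[A] Ext (ModuleCat.of A W) (ModuleCat.of A M) (i + 1)) := by
  refine ⟨LinearEquiv.ofBijective
    (Ext.postcompOfLinear (Goren.mulSeq_shortExact hreg π hπs hπ).extClass A (ModuleCat.of A W) rfl) ⟨?_, fun a => ?_⟩⟩
  · refine (injective_iff_map_eq_zero _).2 fun b hb => ?_
    obtain ⟨c, rfl⟩ := Ext.covariant_sequence_exact₃ _ (Goren.mulSeq_shortExact hreg π hπs hπ) b rfl hb
    haveI := h
    rw [Subsingleton.elim c 0, Ext.zero_comp]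
  · exact Ext.covariant_sequence_exact₁ _ (Goren.mulSeq_shortExact hreg π hπs hπ) a
      (comp_f_eq_zero π hπ hW a) rfl

include hreg hW in
lemma subsingleton_ext_zero : Subsingleton (Ext (ModuleCat.of A W) (ModuleCat.of A M) 0) :=
  subsingleton_of_forall_eq 0 fun a => by
    obtain ⟨g, rfl⟩ := (Ext.mk₀_bijective _ _).2 a
    rw [show g = 0 from ModuleCat.hom_ext (LinearMap.ext fun w => hreg (by
      show x • g.hom w = x • 0
      rw [← map_smul, hW, map_zero, smul_zero])), Ext.mk₀_zero]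

end step

theorem ext_of_regular : ∀ (rs : List A) (M : Type u) [AddCommGroup M] [Module A M], IsWeaklyRegular M rs →
    (∀ r ∈ rs, ∀ w : W, r • w = 0) →
    (∀ i < rs.length, Subsingleton (Ext (ModuleCat.of A W) (ModuleCat.of A M) i)) ∧
      Nonempty (Ext (ModuleCat.of A W) (ModuleCat.of A M) rs.length ≃ₗ[A]
        (W →ₗ[A] M ⧸ (Ideal.ofList rs • ⊤ : Submodule A M))) := by
  intro rs
  induction rs with
  | nil =>
    intro M _ _ _ _
    refine ⟨fun i hi => absurd hi (Nat.not_lt_zero i), ⟨(Ext.linearEquiv₀.trans ModuleCat.homLinearEquiv).trans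
      (LinearEquiv.congrRight (Submodule.quotEquivOfEqBot _ ?_).symm)⟩⟩
    rw [Ideal.ofList_nil, Submodule.bot_smul]
  | cons r rs ih =>
    intro M _ _ hw hkill
    rw [isWeaklyRegular_cons_iff] at hw
    obtain ⟨hvan, ⟨e⟩⟩ := ih (QuotSMulTop r M) hw.2 fun s hs => hkill s (List.mem_cons_of_mem _ hs)
    have hπ : ∀ m, (r • (⊤ : Submodule A M)).mkQ m = 0 ↔ ∃ y, m = r • y := fun m => by
      rw [Submodule.mkQ_apply, Submodule.Quotient.mk_eq_zero, Submodule.mem_smul_pointwise_iff_exists]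
      exact ⟨fun ⟨y, _, hy⟩ => ⟨y, hy.symm⟩, fun ⟨y, hy⟩ => ⟨y, trivial, hy.symm⟩⟩
    have hW := hkill r List.mem_cons_self
    have hM : ∀ i < (r :: rs).length, Subsingleton (Ext (ModuleCat.of A W) (ModuleCat.of A M) i) := by
      intro i hi
      cases i with
      | zero => exact subsingleton_ext_zero hw.1 hW
      | succ i =>
        exact subsingleton_ext_succ hw.1 _ (Submodule.mkQ_surjective _) hπ hW (hvan i (by simpa using hi))
    refine ⟨hM, ?_⟩
    obtain ⟨d⟩ := ext_shift hw.1 _ (Submodule.mkQ_surjective _) hπ hW (hM rs.length (by simp))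
    exact ⟨(d.symm.trans e).trans
      (LinearEquiv.congrRight (Submodule.quotOfListConsSMulTopEquivQuotSMulTopInner M r rs).symm)⟩

end Groth.Agent.GrGor
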