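import Groth.Agent.GrGor.Core
import Groth.Agent.GrLCVeronese.Basic
import Groth.Agent.GrLCLib.Dim
import Groth.Agent.GrLCLib.MulRes
import Groth.Agent.GrLCLib.HighVan

/-!
Veronese subrings of graded Gorenstein rings with `q` dividing the `a`-invariant.
-/

set_option autoImplicit false
set_option linter.unusedSectionVars false
set_option linter.style.haveILetI false
set_option backward.isDefEq.respectTransparency false
set_option backward.isDefEq.respectTransparency.types false
universe u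

open scoped Classical
open DirectSum IsLocalRing Groth.Agent.GrLCLib Groth.Agent.GrLCVeronese

noncomputable section

namespace Groth.Agent.GrGor

lemma gorenstein_prime_congr {A : Type u} [CommRing A] (P Q : Ideal A) [P.IsPrime] [Q.IsPrime] (h : P = Q) :
    LocCoh.IsGorensteinLocalRing (Localization.AtPrime P) ↔ LocCoh.IsGorensteinLocalRing (Localization.AtPrime Q) := by
  subst h
  exact Iff.rfl

/-- Dividing by a regular element at a prime. -/
theorem gorenstein_of_quot_atPrime {A : Type u} [CommRing A] [IsNoetherianRing A] {f : A} (hf : IsSMulRegular A f)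
    (P : Ideal (A ⧸ Ideal.span {f})) [P.IsPrime]
    (h : LocCoh.IsGorensteinLocalRing (Localization.AtPrime P)) :
    LocCoh.IsGorensteinLocalRing (Localization.AtPrime (P.comap (Ideal.Quotient.mk (Ideal.span {f})))) := by
  let π : A →+* A ⧸ Ideal.span {f} := Ideal.Quotient.mk _
  let p := P.comap π
  haveI : IsNoetherianRing (Localization.AtPrime p) := IsLocalization.isNoetherianRing p.primeCompl _ inferInstance
  let φ := Localization.localRingHom p P π rfl
  have hφs : Function.Surjective φ := fun y => by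
    obtain ⟨⟨a, s⟩, rfl⟩ := IsLocalization.mk'_surjective P.primeCompl y
    obtain ⟨a, rfl⟩ := Ideal.Quotient.mk_surjective a
    obtain ⟨t, ht⟩ := Ideal.Quotient.mk_surjective (s : A ⧸ Ideal.span {f})
    refine ⟨IsLocalization.mk' _ a (⟨t, show π t ∉ P from ht ▸ s.2⟩ : p.primeCompl), ?_⟩
    rw [Localization.localRingHom_mk']
    congr 1
    exact Subtype.ext ht
  have hker : RingHom.ker φ = Ideal.span {algebraMap A (Localization.AtPrime p) f} := by
    refine le_antisymm (fun y hy => ?_) ((Ideal.span_singleton_le_iff_mem _).2 ?_)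
    · obtain ⟨⟨a, s⟩, rfl⟩ := IsLocalization.mk'_surjective p.primeCompl y
      rw [RingHom.mem_ker, Localization.localRingHom_mk', IsLocalization.mk'_eq_zero_iff] at hy
      obtain ⟨u, hu⟩ := hy
      obtain ⟨u', hu'⟩ := Ideal.Quotient.mk_surjective (u : A ⧸ Ideal.span {f})
      have hmem : u' * a ∈ Ideal.span {f} := by
        rw [← Ideal.Quotient.eq_zero_iff_mem, map_mul, hu']
        exact hu
      obtain ⟨c, hc⟩ := Ideal.mem_span_singleton'.1 hmem
      have hu'' : u' ∈ p.primeCompl := show π u' ∉ P from hu' ▸ u.2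
      refine Ideal.mem_span_singleton'.2 ⟨IsLocalization.mk' _ c (⟨u', hu''⟩ * s : p.primeCompl), ?_⟩
      rw [mul_comm, IsLocalization.mul_mk'_eq_mk'_of_mul, IsLocalization.mk'_eq_iff_eq]
      congr 1
      simp only [Submonoid.coe_mul]
      linear_combination (s : A) * hc
    · rw [RingHom.mem_ker, Localization.localRingHom_to_map,
        show π f = 0 from Ideal.Quotient.eq_zero_iff_mem.2 (Ideal.mem_span_singleton_self f), map_zero]
  let e : Localization.AtPrime p ⧸ Ideal.span {algebraMap A (Localization.AtPrime p) f} ≃+* Localization.AtPrime P :=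
    (Ideal.quotEquivOfEq hker.symm).trans (RingHom.quotientKerEquivOfSurjective hφs)
  haveI : IsLocalRing (Localization.AtPrime p ⧸ Ideal.span {algebraMap A (Localization.AtPrime p) f}) :=
    e.symm.isLocalRing
  have hfm : algebraMap A (Localization.AtPrime p) f ∈ maximalIdeal (Localization.AtPrime p) := by
    refine (IsLocalization.AtPrime.to_map_mem_maximal_iff _ p f).2 ?_
    show π f ∈ P
    rw [show π f = 0 from Ideal.Quotient.eq_zero_iff_mem.2 (Ideal.mem_span_singleton_self f)]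
    exact zero_mem _
  exact (Goren.gorenstein_iff_quot _ hfm hf.of_flat).2 ((Goren.gorenstein_equiv_iff e).2 h)

/-- Lifting along `A ⧸ (K ⊔ (y)) = (A ⧸ K) ⧸ (y)`. -/
theorem gorenstein_lift_sup {A : Type u} [CommRing A] [IsNoetherianRing A] (K : Ideal A) (y : A)
    (hy : ∀ w : A, y * w ∈ K → w ∈ K) (P : Ideal (A ⧸ (K ⊔ Ideal.span {y}))) [P.IsPrime]
    (h : LocCoh.IsGorensteinLocalRing (Localization.AtPrime P)) :
    ∃ (P' : Ideal (A ⧸ K)) (_ : P'.IsPrime), P'.comap (Ideal.Quotient.mk K) = P.comap (Ideal.Quotient.mk (K ⊔ Ideal.span {y})) ∧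
      LocCoh.IsGorensteinLocalRing (Localization.AtPrime P') := by
  let e : (A ⧸ K) ⧸ Ideal.span {Ideal.Quotient.mk K y} ≃+* A ⧸ (K ⊔ Ideal.span {y}) :=
    (Ideal.quotEquivOfEq (by rw [Ideal.map_span, Set.image_singleton])).trans
      (DoubleQuot.quotQuotEquivQuotSup K (Ideal.span {y}))
  have hreg : IsSMulRegular (A ⧸ K) (Ideal.Quotient.mk K y) := by
    refine isSMulRegular_iff_right_eq_zero_of_smul.2 fun z hz => ?_
    obtain ⟨z, rfl⟩ := Ideal.Quotient.mk_surjective z
    rw [smul_eq_mul, ← map_mul, Ideal.Quotient.eq_zero_iff_mem] at hz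
    exact Ideal.Quotient.eq_zero_iff_mem.2 (hy z hz)
  set f : (A ⧸ K) ⧸ Ideal.span {Ideal.Quotient.mk K y} →+* A ⧸ (K ⊔ Ideal.span {y}) := e.toRingHom
  haveI : (P.comap f).IsPrime := Ideal.IsPrime.comap f
  have h1 : LocCoh.IsGorensteinLocalRing (Localization.AtPrime (P.comap f)) := (gorenstein_equiv_prime e P).2 h
  have h2 := gorenstein_of_quot_atPrime hreg (P.comap f) h1
  refine ⟨(P.comap f).comap (Ideal.Quotient.mk (Ideal.span {Ideal.Quotient.mk K y})), Ideal.IsPrime.comap _, ?_, h2⟩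
  rw [Ideal.comap_comap, Ideal.comap_comap]
  congr 1

/-- Gorenstein quotients by a further regular element. -/
theorem isGorensteinRing_sup {A : Type u} [CommRing A] [IsNoetherianRing A] (K : Ideal A) (y : A)
    (hy : ∀ w : A, y * w ∈ K → w ∈ K) (h : LocCoh.IsGorensteinRing (A ⧸ K)) :
    LocCoh.IsGorensteinRing (A ⧸ (K ⊔ Ideal.span {y})) := by
  have hreg : IsSMulRegular (A ⧸ K) (Ideal.Quotient.mk K y) := by
    refine isSMulRegular_iff_right_eq_zero_of_smul.2 fun z hz => ?_
    obtain ⟨z, rfl⟩ := Ideal.Quotient.mk_surjective z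
    rw [smul_eq_mul, ← map_mul, Ideal.Quotient.eq_zero_iff_mem] at hz
    exact Ideal.Quotient.eq_zero_iff_mem.2 (hy z hz)
  refine Goren.isGorensteinRing_of_equiv _ _ ?_ (Goren.isGorensteinRing_quot (A ⧸ K) h _ hreg)
  exact (Ideal.quotEquivOfEq (by rw [Ideal.map_span, Set.image_singleton])).trans
    (DoubleQuot.quotQuotEquivQuotSup K (Ideal.span {y}))

/-- In a *local positively graded ring it is enough to check at the irrelevant ideal. -/
theorem isGorensteinRing_of_starLocal {R : Type u} [CommRing R] [IsNoetherianRing R] {𝒜 : ℤ → AddSubgroup R}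
    [GradedRing 𝒜] {m : HomogeneousIdeal 𝒜} [m.toIdeal.IsPrime] (hm : GrLC.IsStarLocal 𝒜 m)
    (h : LocCoh.IsGorensteinLocalRing (Localization.AtPrime m.toIdeal)) : LocCoh.IsGorensteinRing R := by
  haveI : IsNoetherianRing (Localization.AtPrime m.toIdeal) :=
    IsLocalization.isNoetherianRing m.toIdeal.primeCompl _ inferInstance
  refine { isGorensteinLocalRing_localization := fun P hP => ?_ }
  haveI : (Ideal.homogeneousCore 𝒜 P).toIdeal.IsPrime := Ideal.IsPrime.homogeneousCore hP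
  refine gorenstein_of_core 𝒜 P ?_
  set c := (Ideal.homogeneousCore 𝒜 P).toIdeal
  have hcm : c ≤ m.toIdeal := le_of_isHomogeneous hm (Ideal.homogeneousCore 𝒜 P).isHomogeneous
    (Ideal.IsPrime.ne_top inferInstance)
  have hdisj : Disjoint (m.toIdeal.primeCompl : Set R) c := by
    rw [Set.disjoint_left]
    exact fun x hx hxc => hx (hcm hxc)
  obtain ⟨N, hN⟩ := h.exists_hasInjectiveDimensionLT
  have hinj : CategoryTheory.HasInjectiveDimensionLE
      (ModuleCat.of (Localization.AtPrime m.toIdeal) (Localization.AtPrime m.toIdeal)) N :=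
    CategoryTheory.hasInjectiveDimensionLT_of_ge _ N (N + 1) (by omega)
  exact gorenstein_of_disjoint m.toIdeal.primeCompl
    ({ isGorensteinLocalRing_localization := fun p _ => (Goren.gorenstein_atPrime hinj p).1 } :
      LocCoh.IsGorensteinRing (Localization.AtPrime m.toIdeal)) c hdisj

section

variable {R : Type u} [CommRing R] [IsNoetherianRing R] (𝒜 : ℤ → AddSubgroup R) [GradedRing 𝒜]
  {R' : Type u} [CommRing R'] (𝒜' : ℤ → AddSubgroup R') [GradedRing 𝒜']

variable {𝒜 𝒜'} (D : Datum 𝒜 𝒜')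

lemma comap_map_eq (J : Ideal R') : (J.map D.φ).comap D.φ = J := by
  refine le_antisymm (fun a ha => ?_) Ideal.le_comap_map
  have hrange : ∀ r : R, ∃ b : R', D.φ b = vproj D 𝒜 r := fun r => by
    induction r using DirectSum.Decomposition.inductionOn 𝒜 with
    | zero => exact ⟨0, by simp⟩
    | @homogeneous g y =>
      rw [vproj_of_mem D 𝒜 y.2]
      split
      · rename_i h
        obtain ⟨b, -, hb⟩ := D.exists_preimage (j := g / D.q) (r := y) (by rw [Int.ediv_mul_cancel h]; exact y.2)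
        exact ⟨b, hb⟩
      · exact ⟨0, map_zero _⟩
    | add u v hu hv =>
      obtain ⟨b, hb⟩ := hu; obtain ⟨c, hc⟩ := hv
      exact ⟨b + c, by rw [map_add, map_add, hb, hc]⟩
  have hmain : ∀ r ∈ J.map D.φ, ∀ s : R, ∃ b ∈ J, D.φ b = vproj D 𝒜 (s * r) := by
    intro r hr
    induction hr using Submodule.span_induction with
    | mem r hr =>
      obtain ⟨b, hb, rfl⟩ := hr
      intro s
      obtain ⟨c, hc⟩ := hrange s
      refine ⟨b * c, J.mul_mem_right _ hb, ?_⟩
      rw [map_mul, hc, mul_comm s]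
      exact (vproj_smul D 𝒜 b s).symm
    | zero => exact fun s => ⟨0, J.zero_mem, by simp⟩
    | add u v _ _ hu hv =>
      intro s
      obtain ⟨b, hb, hb'⟩ := hu s; obtain ⟨c, hc, hc'⟩ := hv s
      exact ⟨b + c, J.add_mem hb hc, by rw [map_add, hb', hc', mul_add, map_add]⟩
    | smul t u _ hu => exact fun s => by simpa only [smul_eq_mul, mul_assoc] using hu (s * t)
  obtain ⟨b, hb, hb'⟩ := hmain _ ha 1
  have hone : vproj D 𝒜 (1 : R) = 1 := by
    rw [vproj_of_mem D 𝒜 (SetLike.one_mem_graded 𝒜), if_pos (dvd_zero _)]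
  have hfix : vproj D 𝒜 (D.φ a) = D.φ a := by
    have h1 := vproj_smul D 𝒜 a (1 : R)
    rwa [hone, smul_eq_mul, mul_one] at h1
  rw [one_mul, hfix] at hb'
  rwa [D.hφ hb'] at hb

lemma isHomogeneous_map {J : Ideal R'} (hJ : J.IsHomogeneous 𝒜') : (J.map D.φ).IsHomogeneous 𝒜 := by
  have h : J.map D.φ = Ideal.span (D.φ '' {x | x ∈ J ∧ SetLike.IsHomogeneousElem 𝒜' x}) := by
    refine le_antisymm (Ideal.map_le_iff_le_comap.2 fun x hx => ?_) (Ideal.span_le.2 ?_)
    · rw [← sum_pr 𝒜' x]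
      exact Ideal.sum_mem _ fun g _ => Ideal.subset_span ⟨_, ⟨hJ g hx, ⟨g, pr_mem 𝒜' g x⟩⟩, rfl⟩
    · rintro _ ⟨x, hx, rfl⟩
      exact Ideal.mem_map_of_mem _ hx.1
  rw [h]
  refine Ideal.homogeneous_span 𝒜 _ ?_
  rintro _ ⟨x, ⟨-, g, hg⟩, rfl⟩
  exact ⟨g * D.q, D.map_mem hg⟩

/-- The quotient as a graded module. -/
def qObj (K : Ideal R) (hK : K.IsHomogeneous 𝒜) : GrLC.GMod.{u} 𝒜 :=
  quotObj 𝒜 𝒜 K (fun x hx g => hK g hx)

variable (m : HomogeneousIdeal 𝒜) (m' : HomogeneousIdeal 𝒜') (n : ℕ) (a : ℤ)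

/-- The state after dividing by `t` elements. -/
structure Stage (t : ℕ) where
  K : Ideal R'
  hK : K.IsHomogeneous 𝒜'
  S : ℤ
  dvd : (D.q : ℤ) ∣ S
  height : ∀ P : Ideal R, P.IsPrime → K.map D.φ ≤ P → (t : ℕ∞) ≤ P.height
  res : ∀ F : GrLC.StarInjRes 𝒜 (qObj (K.map D.φ) (isHomogeneous_map D hK)).gr,
    (∀ i < n - t, ∀ e, Van F m i e) ∧
      GrLC.endDeg (F.Hgr m (n - t)) = ((a + S : ℤ) : WithTop ℤ)
  gor : LocCoh.IsGorensteinRing (R ⧸ K.map D.φ)
  gor' : LocCoh.IsGorensteinRing R' → LocCoh.IsGorensteinRing (R' ⧸ K)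
  le_irr : K ≤ m'.toIdeal
  regseq : ∃ rs : List R', rs.length = t ∧ RingTheory.Sequence.IsWeaklyRegular R' rs ∧ Ideal.ofList rs = K
  lift : ∀ (P : Ideal (R' ⧸ K)) [P.IsPrime], P.comap (Ideal.Quotient.mk K) = m'.toIdeal →
    LocCoh.IsGorensteinLocalRing (Localization.AtPrime P) →
      ∀ [m'.toIdeal.IsPrime], LocCoh.IsGorensteinLocalRing (Localization.AtPrime m'.toIdeal)

variable (hpos : ∀ k : ℤ, k < 0 → 𝒜 k = ⊥) (hm : GrLC.IsStarLocal 𝒜 m)
  (hmsp : m.toIdeal = Ideal.span (⋃ k ∈ Set.Ioi (0 : ℤ), (𝒜 k : Set R)))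
  (hm'sp : m'.toIdeal = Ideal.span (⋃ k ∈ Set.Ioi (0 : ℤ), (𝒜' k : Set R')))
  (hn : ringKrullDim R = n) (hG : LocCoh.IsGorensteinRing R)
  (I : GrLC.StarInjRes 𝒜 𝒜) (ha : GrLC.endDeg (I.Hgr m n) = ((a : WithTop ℤ) : WithBot (WithTop ℤ)))

include hpos hm hn in
lemma height_eq : m.toIdeal.height = (n : ℕ∞) :=
  WithBot.coe_inj.1 ((ringKrullDim_eq_height hpos hm).symm.trans hn)

include hpos hm hn hG I ha in
theorem stage_zero : Nonempty (Stage D m m' n a 0) := by
  have hb : (⊥ : Ideal R').map D.φ = ⊥ := Ideal.map_bot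
  refine ⟨{ K := ⊥, hK := Ideal.IsHomogeneous.bot 𝒜', S := 0, dvd := dvd_zero _,
            height := fun P _ _ => bot_le, res := fun F => ?_, gor := ?_,
            gor' := fun h => Goren.isGorensteinRing_of_equiv R' _ (RingEquiv.quotientBot R').symm h,
            le_irr := bot_le, regseq := ⟨[], rfl, RingTheory.Sequence.IsWeaklyRegular.nil _ _, Ideal.ofList_nil⟩,
            lift := ?_ }⟩
  · let K : Submodule R R := (⊥ : Ideal R').map D.φ
    have hπk : LinearMap.ker K.mkQ = Ideal.span (Set.range (Fin.elim0 : Fin 0 → R)) • (⊤ : Submodule R R) := by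
      rw [Submodule.ker_mkQ, Set.range_eq_empty, Ideal.span_empty, Submodule.bot_smul]
      exact hb
    haveI : LocCoh.IsCohenMacaulayRing R :=
      { isCohenMacaulayLocalRing_localization := fun p _ =>
          haveI := hG.isGorensteinLocalRing_localization p
          Goren.isCohenMacaulay (Localization.AtPrime p) }
    have hvan : ∀ i < n, ∀ e, Van I m i e := fun i hi e =>
      van_of_subsingleton I m (subsingleton_H_of_lt_height (I := m.toIdeal) (isStarLocal_ne_top hm)
        (by rw [height_eq m n hpos hm hn]; exact_mod_cast hi)) e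
    refine ⟨fun i hi e => van_retract F I m K.mkQ (K.liftQ LinearMap.id (by rw [show K = ⊥ from hb]; exact bot_le))
      (fun g x hx => ⟨x, hx, rfl⟩) (by rintro g _ ⟨x, hx, rfl⟩; exact hx)
      (fun x => by obtain ⟨x, rfl⟩ := K.mkQ_surjective x; rfl) (hvan i (by omega) e), ?_⟩
    have h := endDeg_quot_seq (X := GrLC.GMod.of 𝒜 R 𝒜) m F 0 I n (fun i hi => hvan i (by omega)) Fin.elim0
      (fun j => j.elim0) (fun j => j.elim0) (fun j => j.elim0) (fun j => j.elim0) (by simp) K.mkQ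
      (fun g x hx => ⟨x, hx, rfl⟩) K.mkQ_surjective hπk
    simp only [Finset.univ_eq_empty, Finset.sum_empty, Nat.add_zero] at h
    rw [Nat.sub_zero, h, ha, ← WithBot.coe_add, ← WithTop.coe_add]
  · exact Goren.isGorensteinRing_of_equiv R _ ((RingEquiv.quotientBot R).symm.trans (Ideal.quotEquivOfEq hb.symm)) hG
  · intro P _ hP h hm'
    have h1 := (gorenstein_equiv_prime (RingEquiv.quotientBot R').symm P).2 h
    exact (gorenstein_prime_congr _ _ (by rw [← hP]; rfl)).1 h1

include hpos hm hmsp hm'sp hn in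
theorem stage_succ {t : ℕ} (ht : t < n) (st : Stage D m m' n a t) : Nonempty (Stage D m m' n a (t + 1)) := by
  haveI := isNoetherianRing D
  set K := st.K.map D.φ with hKdef
  have hK : K.IsHomogeneous 𝒜 := isHomogeneous_map D st.hK
  obtain ⟨F⟩ := nonempty_starInjRes 𝒜 (qObj K hK).gr
  obtain ⟨hvan, hend⟩ := st.res F
  have hgam : ∀ x : R ⧸ K, (∀ r ∈ m.toIdeal, r • x = 0) → x = 0 := by
    intro x hx
    let xq : (qObj K hK).carrier := x
    have hx' : xq ∈ GrLC.gam m.toIdeal (qObj K hK).carrier :=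
      ⟨1, fun r hr => hx r (by rwa [pow_one] at hr)⟩
    suffices h : F.ε xq = 0 from F.ε_injective (h.trans (map_zero F.ε).symm)
    rw [← sum_pr (qObj K hK).gr xq, map_sum]
    refine Finset.sum_eq_zero fun g _ => ?_
    exact (Submodule.mem_bot R).1 (hvan 0 (by omega) g _ (F.ε_grHom g _ (pr_mem _ g _))
      ⟨map_mem_gam F.ε (homog_gam 𝒜 m _ hx' g), GrLCLib.d_ε F _⟩)
  have hmax : m.toIdeal.IsMaximal := isMaximal_of_isStarLocal hpos hm
  haveI : Finite (associatedPrimes R (R ⧸ K)) := (associatedPrimes.finite R (R ⧸ K)).to_subtype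
  let Sp : Finset (Ideal R) := (associatedPrimes.finite R (R ⧸ K)).toFinset
  have hSp : ∀ p ∈ Sp, p.IsPrime ∧ ¬ m.toIdeal ≤ p := by
    intro p hp
    have hp' : p ∈ associatedPrimes R (R ⧸ K) := (Set.Finite.mem_toFinset _).1 hp
    refine ⟨hp'.isPrime, fun hle => ?_⟩
    have hpm : m.toIdeal = p := hmax.eq_of_le hp'.isPrime.ne_top hle
    obtain ⟨-, x, hx⟩ := isAssociatedPrime_iff.1 hp'
    have hx0 : x = 0 := hgam x fun r hr => by
      rw [hpm, hx] at hr
      simpa [Submodule.mem_colon_singleton] using hr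
    subst hx0
    refine hp'.isPrime.ne_top ((Ideal.eq_top_iff_one _).2 ?_)
    rw [hx]
    simp [Submodule.mem_colon_singleton]
  obtain ⟨T, hT, hTs⟩ := (Submodule.fg_span_iff_fg_span_finset_subset _).1
    (show (Ideal.span (⋃ k ∈ Set.Ioi (0 : ℤ), (𝒜 k : Set R))).FG from IsNoetherian.noetherian _)
  have hTd : ∀ b : T, ∃ k : ℤ, 0 < k ∧ (b : R) ∈ 𝒜 k := fun b => by
    obtain ⟨k, hk, hb⟩ := Set.mem_iUnion₂.1 (hT b.2)
    exact ⟨k, hk, hb⟩
  choose dT hdT hdT' using hTd
  let f : Fin (T.card + 1) → R := Fin.cons 0 fun b => (T.equivFin.symm b : R)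
  have hf : m.toIdeal = Ideal.span (Set.range f) := by
    rw [hmsp]
    refine hTs.trans (le_antisymm (Submodule.span_le.2 fun y hy => ?_) (Ideal.span_le.2 ?_))
    · exact Ideal.subset_span ⟨(T.equivFin ⟨y, hy⟩).succ, by simp [f]⟩
    · rintro _ ⟨b, rfl⟩
      refine Fin.cases ?_ (fun b => ?_) b
      · exact zero_mem _
      · exact Submodule.subset_span (by simp [f])
  obtain ⟨d, x, hd, hx, hxm, hxS⟩ := exists_homog_notMem_gen (𝒜 := 𝒜) (f := f)
    (dg := Fin.cons 1 fun b => dT (T.equivFin.symm b)) m.toIdeal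
    (fun j => Fin.cases (zero_mem _) (fun b => by simpa [f] using hdT' _) j) hf
    (fun j => Fin.cases (by simp) (fun b => by simpa using hdT _) j) (Nat.succ_pos _) Sp.card Sp rfl hSp
  set y := x ^ D.q
  have hy : y ∈ 𝒜 ((d : ℤ) * D.q) := by
    have := SetLike.pow_mem_graded D.q hx
    rwa [nsmul_eq_mul, mul_comm] at this
  obtain ⟨y', hy', hyy⟩ := D.exists_preimage (j := (d : ℤ)) hy
  have hym : y ∈ m.toIdeal := Ideal.pow_mem_of_mem _ hxm _ D.hq
  have hyS : ∀ p ∈ associatedPrimes R (R ⧸ K), y ∉ p := fun p hp h =>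
    hxS p ((Set.Finite.mem_toFinset _).2 hp) (hp.isPrime.mem_of_pow_mem _ h)
  have hreg : IsSMulRegular (R ⧸ K) y := by
    refine isSMulRegular_iff_right_eq_zero_of_smul.2 fun z hz => ?_
    by_contra hz0
    have : y ∈ ⋃ p ∈ associatedPrimes R (R ⧸ K), (p : Set R) := by
      rw [biUnion_associatedPrimes_eq_zero_divisors]
      exact ⟨z, hz0, hz⟩
    obtain ⟨p, hp, hyp⟩ := Set.mem_iUnion₂.1 this
    exact hyS p hp hyp
  have hregK : ∀ w : R, y * w ∈ K → w ∈ K := fun w hw => by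
    refine (Submodule.Quotient.mk_eq_zero K).1 (hreg (a₂ := 0) ?_)
    exact ((Submodule.Quotient.mk_eq_zero K).2 hw).trans (smul_zero y).symm
  haveI := isNoetherianRing D
  have hregK' : ∀ w : R', y' * w ∈ st.K → w ∈ st.K := fun w hw => by
    rw [← comap_map_eq D st.K, Ideal.mem_comap]
    refine hregK _ ?_
    rw [← hyy, ← map_mul]
    exact Ideal.mem_map_of_mem _ hw
  have hy'm : y' ∈ m'.toIdeal := by
    rw [hm'sp]
    exact Ideal.subset_span (Set.mem_iUnion₂.2 ⟨_, Set.mem_Ioi.2 (Int.natCast_pos.2 hd), hy'⟩)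
  have hK'' : (st.K ⊔ Ideal.span {y'}).IsHomogeneous 𝒜' :=
    st.hK.sup (Ideal.homogeneous_span 𝒜' _ fun z hz => ⟨d, by rw [Set.mem_singleton_iff.1 hz]; exact hy'⟩)
  have hmap : (st.K ⊔ Ideal.span {y'}).map D.φ = K ⊔ Ideal.span {y} := by
    rw [Ideal.map_sup, Ideal.map_span, Set.image_singleton, hyy]
  refine ⟨{ K := st.K ⊔ Ideal.span {y'}, hK := hK'', S := st.S + d * D.q,
            dvd := st.dvd.add (Dvd.intro_left _ rfl), height := ?_, res := ?_, gor := ?_,
            gor' := fun h => isGorensteinRing_sup st.K y' hregK' (st.gor' h),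
            le_irr := sup_le st.le_irr ((Ideal.span_singleton_le_iff_mem _).2 hy'm),
            regseq := (by
              obtain ⟨rs, hlen, hrs, hsp⟩ := st.regseq
              refine ⟨rs ++ [y'], by simp [hlen], (RingTheory.Sequence.isWeaklyRegular_append_iff _ _ _).2 ⟨hrs, ?_⟩,
                by rw [Ideal.ofList_append, Ideal.ofList_singleton, hsp]⟩
              rw [RingTheory.Sequence.isWeaklyRegular_singleton_iff]
              refine isSMulRegular_iff_right_eq_zero_of_smul.2 fun z hz => ?_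
              obtain ⟨z, rfl⟩ := Submodule.mkQ_surjective _ z
              rw [← map_smul, Submodule.mkQ_apply, Submodule.Quotient.mk_eq_zero, smul_eq_mul, smul_eq_mul, Ideal.mul_top, hsp] at hz
              rw [Submodule.mkQ_apply, Submodule.Quotient.mk_eq_zero, smul_eq_mul, Ideal.mul_top, hsp]
              exact hregK' z hz),
            lift := ?_ }⟩
  · intro P hP hPK
    rw [hmap] at hPK
    obtain ⟨Q, hQ, hQP⟩ := Ideal.exists_minimalPrimes_le (le_sup_left.trans hPK)
    have hQa : Q ∈ associatedPrimes R (R ⧸ K) := by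
      apply Module.associatedPrimes.minimalPrimes_annihilator_subset_associatedPrimes
      rwa [Ideal.annihilator_quotient]
    have hlt : Q < P := lt_of_le_of_ne hQP fun h =>
      hyS Q hQa (h ▸ hPK (Ideal.mem_sup_right (Ideal.mem_span_singleton_self y)))
    haveI := hQ.1.1
    have h1 := st.height Q hQ.1.1 hQ.1.2
    rw [Nat.cast_add, Nat.cast_one]
    exact (add_le_add_left h1 1).trans (Ideal.height_add_one_le_of_lt_of_isPrime hlt)
  · intro F'
    set K2 := (st.K ⊔ Ideal.span {y'}).map D.φ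
    have hle : K ≤ K2 := hmap ▸ le_sup_left
    let π : (qObj K hK).carrier →ₗ[R] (qObj K2 (isHomogeneous_map D hK'')).carrier := Submodule.factor hle
    have hπ : GrLC.IsGrHom (qObj K hK).gr (qObj K2 (isHomogeneous_map D hK'')).gr π := by
      rintro g _ ⟨z, hz, rfl⟩
      exact ⟨z, hz, (Submodule.factor_mk hle z).symm⟩
    have hπk : LinearMap.range (y • LinearMap.id : (qObj K hK).carrier →ₗ[R] (qObj K hK).carrier) = LinearMap.ker π := by
      refine le_antisymm ?_ fun z hz => ?_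
      · rintro _ ⟨z, rfl⟩
        obtain ⟨z, rfl⟩ := Submodule.mkQ_surjective K z
        refine (map_smul π y (K.mkQ z)).trans ((Submodule.Quotient.mk_eq_zero K2).2 ?_)
        rw [show K2 = _ from hmap]
        exact Ideal.mem_sup_right (Ideal.mul_mem_right _ _ (Ideal.mem_span_singleton_self y))
      · obtain ⟨z, rfl⟩ := Submodule.mkQ_surjective K z
        have hz' : z ∈ K ⊔ Ideal.span {y} := hmap ▸ (Submodule.Quotient.mk_eq_zero K2).1 hz
        obtain ⟨k, hk, w, hw, rfl⟩ := Submodule.mem_sup.1 hz'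
        obtain ⟨c, rfl⟩ := Ideal.mem_span_singleton'.1 hw
        refine ⟨K.mkQ c, ?_⟩
        show y • K.mkQ c = K.mkQ (k + c * y)
        rw [map_add, show K.mkQ k = 0 from (Submodule.Quotient.mk_eq_zero K).2 hk, zero_add, ← map_smul, smul_eq_mul, mul_comm]
    have hπs : Function.Surjective π := Submodule.factor_surjective hle
    refine ⟨fun i hi e => van_quot m F F' hy hreg hπ hπs hπk (hvan i (by omega) e) (hvan (i + 1) (by omega) _), ?_⟩
    have h := endDeg_quot m F F' hy hreg hπ hπs hπk (Or.inl (by positivity)) hym (i := n - (t + 1))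
      (fun e => hvan _ (by omega) e)
    rw [h, show n - (t + 1) + 1 = n - t by omega, hend, ← WithBot.coe_add, ← WithTop.coe_add, add_assoc]
  · have hreg' : IsSMulRegular (R ⧸ K) (Ideal.Quotient.mk K y) := fun u v h => hreg (by
      show y • u = y • v
      exact (Algebra.smul_def y u).trans (h.trans (Algebra.smul_def y v).symm))
    have h := Goren.isGorensteinRing_quot (R ⧸ K) st.gor (Ideal.Quotient.mk K y) hreg'
    refine Goren.isGorensteinRing_of_equiv _ _ ?_ h
    refine ((Ideal.quotEquivOfEq ?_).trans (DoubleQuot.quotQuotEquivQuotSup K (Ideal.span {y}))).trans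
      (Ideal.quotEquivOfEq hmap.symm)
    rw [Ideal.map_span, Set.image_singleton]
  · intro P hP hPm h hm'
    obtain ⟨P', hP', hcomap, h2⟩ := gorenstein_lift_sup st.K y' hregK' P h
    exact st.lift P' (hcomap.trans hPm) h2

include hpos hm hmsp hm'sp hn hG I ha in
theorem exists_stage : Nonempty (Stage D m m' n a n) := by
  have key : ∀ t ≤ n, Nonempty (Stage D m m' n a t) := by
    intro t
    induction t with
    | zero => exact fun _ => stage_zero D m m' n a hpos hm hn hG I ha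
    | succ t ih => exact fun ht => (ih (by omega)).elim fun st => stage_succ D m m' n a hpos hm hmsp hm'sp hn ht st
  exact key n le_rfl

include hpos hm hmsp hm'sp hn in
/-- The artinian quotient of a full stage: a generator `u` of its socle. -/
theorem stage_core (st : Stage D m m' n a n) : ∃ (u : R) (N : ℕ), u ∈ 𝒜 (a + st.S) ∧ u ∉ st.K.map D.φ ∧
    (∀ e, a + st.S < e → ∀ w ∈ 𝒜 e, w ∈ st.K.map D.φ) ∧
    (∀ r ∈ m.toIdeal, r * u ∈ st.K.map D.φ) ∧
    (∀ z : R, (∀ r ∈ m.toIdeal, r * z ∈ st.K.map D.φ) → ∃ c : R, z - c * u ∈ st.K.map D.φ) ∧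
    m.toIdeal ^ N ≤ st.K.map D.φ ∧ st.K.map D.φ ≠ ⊤ := by
  haveI := isNoetherianRing D
  haveI hmax : m.toIdeal.IsMaximal := isMaximal_of_isStarLocal hpos hm
  set K := st.K.map D.φ with hKdef
  have hK : K.IsHomogeneous 𝒜 := isHomogeneous_map D st.hK
  have hKtop : K ≠ ⊤ := by
    intro hKt
    obtain ⟨F⟩ := nonempty_starInjRes 𝒜 (qObj K hK).gr
    have h := (st.res F).2
    rw [Nat.sub_self] at h
    have hle : GrLC.endDeg (F.Hgr m 0) ≤ (((a + st.S - 1 : ℤ) : WithTop ℤ) : WithBot (WithTop ℤ)) := by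
      refine (endDeg_le_iff F m 0 _).2 fun e _ z hz hzc => ?_
      obtain ⟨w, hw⟩ : z ∈ LinearMap.range F.ε := by rw [← F.exact_zero]; exact hzc.2
      obtain ⟨w, rfl⟩ := Submodule.mkQ_surjective K w
      rw [show K.mkQ w = (0 : (qObj K hK).carrier) from (Submodule.Quotient.mk_eq_zero K).2 (hKt ▸ Submodule.mem_top),
        map_zero] at hw
      rw [← hw]
      exact Submodule.zero_mem _
    rw [h, WithBot.coe_le_coe, WithTop.coe_le_coe] at hle
    omega
  have hprimes : ∀ P : Ideal R, P.IsPrime → K ≤ P → P = m.toIdeal := by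
    intro P hP hKP
    haveI : (Ideal.homogeneousCore 𝒜 P).toIdeal.IsPrime := Ideal.IsPrime.homogeneousCore hP
    have hcm : (Ideal.homogeneousCore 𝒜 P).toIdeal ≤ m.toIdeal :=
      le_of_isHomogeneous hm (Ideal.homogeneousCore 𝒜 P).isHomogeneous (Ideal.IsPrime.ne_top inferInstance)
    have hKc : K ≤ (Ideal.homogeneousCore 𝒜 P).toIdeal := by
      rw [← Ideal.IsHomogeneous.toIdeal_homogeneousCore_eq_self hK]
      exact Ideal.homogeneousCore_mono 𝒜 hKP
    rcases lt_or_eq_of_le hcm with hlt | heq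
    · have h1 := (add_le_add_left (st.height _ inferInstance hKc) 1).trans (Ideal.height_add_one_le_of_lt_of_isPrime hlt)
      rw [height_eq m n hpos hm hn] at h1
      exact absurd h1 (not_le.2 (by exact_mod_cast Nat.lt_succ_self n))
    · exact (hmax.eq_of_le hP.ne_top (heq ▸ Ideal.toIdeal_homogeneousCore_le 𝒜 P)).symm
  have hrad : m.toIdeal ≤ K.radical := by
    rw [Ideal.radical_eq_sInf]
    exact le_sInf fun P hP => (hprimes P hP.2 hP.1).ge
  obtain ⟨N, hN⟩ := Ideal.exists_pow_le_of_le_radical_of_fg hrad (IsNoetherian.noetherian _)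
  set s : ℤ := a + st.S
  obtain ⟨F⟩ := nonempty_starInjRes 𝒜 (qObj K hK).gr
  have hend : GrLC.endDeg (F.Hgr m 0) = ((s : WithTop ℤ) : WithBot (WithTop ℤ)) := by
    have := (st.res F).2
    rwa [Nat.sub_self] at this
  have hVan : ∀ e, Van F m 0 e ↔ ∀ w ∈ 𝒜 e, w ∈ K := by
    intro e
    constructor
    · intro hv w hw
      have hc : F.ε (K.mkQ w) ∈ F.cocyc m 0 :=
        ⟨⟨N, fun r hr => by
          have h0 : r • K.mkQ w = 0 :=
            (map_smul K.mkQ r w).symm.trans ((Submodule.Quotient.mk_eq_zero K).2 (Ideal.mul_mem_right _ _ (hN hr)))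
          exact (map_smul F.ε r _).symm.trans ((congrArg F.ε h0).trans (map_zero F.ε))⟩, GrLCLib.d_ε F _⟩
      have := (Submodule.mem_bot R).1 (hv (F.ε (K.mkQ w)) (F.ε_grHom e _ ⟨w, hw, rfl⟩) hc)
      exact (Submodule.Quotient.mk_eq_zero K).1 (F.ε_injective (this.trans (map_zero F.ε).symm))
    · intro h z hz hzc
      obtain ⟨w, hw⟩ : z ∈ LinearMap.range F.ε := by rw [← F.exact_zero]; exact hzc.2
      have h1 : z = F.ε (pr (qObj K hK).gr e w) := by
        rw [← pr_map _ _ F.ε_grHom, hw, pr_of_mem _ hz]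
      obtain ⟨v, hv, hve⟩ := pr_mem (qObj K hK).gr e w
      rw [h1, ← hve]
      refine (Submodule.mem_bot R).2 ?_
      exact (congrArg F.ε ((Submodule.Quotient.mk_eq_zero K).2 (h v hv))).trans (map_zero F.ε)
  have hhigh : ∀ e, s < e → ∀ w ∈ 𝒜 e, w ∈ K := fun e he =>
    (hVan e).1 ((endDeg_le_iff F m 0 s).1 hend.le e he)
  obtain ⟨u, hu, huK⟩ : ∃ u ∈ 𝒜 s, u ∉ K := by
    by_contra hcon
    push Not at hcon
    have : GrLC.endDeg (F.Hgr m 0) ≤ (((s - 1 : ℤ) : WithTop ℤ) : WithBot (WithTop ℤ)) :=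
      (endDeg_le_iff F m 0 _).2 fun e he => (hVan e).2 fun w hw => by
        rcases eq_or_ne e s with rfl | hne
        · exact hcon w hw
        · exact hhigh e (by omega) w hw
    rw [hend, WithBot.coe_le_coe, WithTop.coe_le_coe] at this
    omega
  -- the artinian Gorenstein quotient
  haveI : Nontrivial (R ⧸ K) := Ideal.Quotient.nontrivial_iff.2 hKtop
  haveI := st.gor
  haveI : IsLocalRing (R ⧸ K) := by
    refine IsLocalRing.of_unique_max_ideal ⟨m.toIdeal.map (Ideal.Quotient.mk K), ?_, fun M hM => ?_⟩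
    · refine Ideal.IsMaximal.map_of_surjective_of_ker_le Ideal.Quotient.mk_surjective ?_
      rw [Ideal.mk_ker]
      exact le_of_isHomogeneous hm hK hKtop
    · have h1 : M.comap (Ideal.Quotient.mk K) = m.toIdeal :=
        hprimes _ inferInstance (fun z hz => by
          rw [Ideal.mem_comap, Ideal.Quotient.eq_zero_iff_mem.2 hz]; exact zero_mem _)
      rw [← h1, Ideal.map_comap_of_surjective _ Ideal.Quotient.mk_surjective]
  have hmaxA : ∀ z : R, Ideal.Quotient.mk K z ∈ maximalIdeal (R ⧸ K) ↔ z ∈ m.toIdeal := by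
    intro z
    rw [← Ideal.mem_comap, hprimes ((maximalIdeal (R ⧸ K)).comap (Ideal.Quotient.mk K)) inferInstance
      (fun w hw => by rw [Ideal.mem_comap, Ideal.Quotient.eq_zero_iff_mem.2 hw]; exact zero_mem _)]
  have hdimA : ringKrullDim (R ⧸ K) = 0 := by
    haveI : Ring.KrullDimLE 0 (R ⧸ K) := Ring.krullDimLE_zero_iff.2 fun P hP => by
      have h1 : P.comap (Ideal.Quotient.mk K) = m.toIdeal :=
        hprimes _ inferInstance (fun z hz => by
          rw [Ideal.mem_comap, Ideal.Quotient.eq_zero_iff_mem.2 hz]; exact zero_mem _)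
      rw [← Ideal.map_comap_of_surjective _ Ideal.Quotient.mk_surjective P, h1]
      refine Ideal.IsMaximal.map_of_surjective_of_ker_le Ideal.Quotient.mk_surjective ?_
      rw [Ideal.mk_ker]
      exact le_of_isHomogeneous hm hK hKtop
    exact ringKrullDimZero_iff_ringKrullDim_eq_zero.1 inferInstance
  have hGA : LocCoh.IsGorensteinLocalRing (R ⧸ K) := by
    haveI := st.gor.isGorensteinLocalRing_localization (maximalIdeal (R ⧸ K))
    refine Goren.isGorenstein_of_equiv (A := Localization.AtPrime (maximalIdeal (R ⧸ K)))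
      (IsLocalization.atUnits (R ⧸ K) (maximalIdeal (R ⧸ K)).primeCompl
        (fun z hz => IsLocalRing.notMem_maximalIdeal.1 hz)).symm.toRingEquiv
  obtain ⟨σ, hσ0, hσm, hσ⟩ := (Goren.gorenstein_iff_socSimple (R ⧸ K) hdimA).1 hGA
  have hupos : ∀ r ∈ m.toIdeal, r * u ∈ K := by
    intro r hr
    rw [← sum_pr 𝒜 r, Finset.sum_mul]
    refine Ideal.sum_mem _ fun i _ => ?_
    rcases le_or_gt i 0 with hi | hi
    · rcases eq_or_lt_of_le hi with rfl | hi
      · by_cases h0 : pr 𝒜 0 r = 0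
        · rw [h0, zero_mul]; exact zero_mem _
        · have h0m : pr 𝒜 0 r ∈ m.toIdeal := m.isHomogeneous 0 hr
          rw [hmsp] at h0m
          exact absurd ((pr_of_mem 𝒜 (pr_mem 𝒜 0 r)).symm.trans (mem_span_pos_pr_zero hpos h0m)) h0
      · rw [show pr 𝒜 i r = 0 from (hpos i hi).le (pr_mem 𝒜 i r), zero_mul]; exact zero_mem _
    · exact hhigh (i + s) (by omega) _ (SetLike.mul_mem_graded (pr_mem 𝒜 i r) hu)
  have hsoc : ∀ z : R, (∀ r ∈ m.toIdeal, r * z ∈ K) → ∃ c : R, z - c * u ∈ K := by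
    intro z hz
    have hkill : ∀ {z : R}, (∀ r ∈ m.toIdeal, r * z ∈ K) → Ideal.Quotient.mk K z ∈ Ideal.span {σ} := fun {z} hz =>
      hσ _ fun x hx => by
        obtain ⟨x, rfl⟩ := Ideal.Quotient.mk_surjective x
        rw [← map_mul, Ideal.Quotient.eq_zero_iff_mem]
        exact hz x ((hmaxA x).1 hx)
    obtain ⟨c₁, hc₁⟩ := Ideal.mem_span_singleton'.1 (hkill hupos)
    obtain ⟨c₂, hc₂⟩ := Ideal.mem_span_singleton'.1 (hkill hz)
    obtain ⟨v, hv⟩ : IsUnit c₁ := by
      by_contra h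
      refine huK (Ideal.Quotient.eq_zero_iff_mem.1 ?_)
      rw [← hc₁]
      exact hσm c₁ ((IsLocalRing.mem_maximalIdeal _).2 h)
    obtain ⟨c, hc⟩ := Ideal.Quotient.mk_surjective (c₂ * (↑v⁻¹ : R ⧸ K))
    refine ⟨c, Ideal.Quotient.eq.1 ?_⟩
    rw [map_mul, hc, ← hc₁, ← hc₂, ← hv, mul_assoc, ← mul_assoc (↑v⁻¹ : R ⧸ K), Units.inv_mul, one_mul]
  exact ⟨u, N, hu, huK, hhigh, hupos, hsoc, hN, hKtop⟩

include hpos hm hmsp hm'sp hn hG I ha in
theorem gorenstein_veronese_atPrime [m'.toIdeal.IsPrime] (hdvd : (D.q : ℤ) ∣ a) :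
    LocCoh.IsGorensteinLocalRing (Localization.AtPrime m'.toIdeal) := by
  haveI := isNoetherianRing D
  haveI hmax : m.toIdeal.IsMaximal := isMaximal_of_isStarLocal hpos hm
  obtain ⟨st⟩ := exists_stage D m m' n a hpos hm hmsp hm'sp hn hG I ha
  set K := st.K.map D.φ with hKdef
  have hK : K.IsHomogeneous 𝒜 := isHomogeneous_map D st.hK
  obtain ⟨u, N, hu, huK, hhigh, hupos, hsoc, hN, hKtop⟩ := stage_core D m m' n a hpos hm hmsp hm'sp hn st
  set s : ℤ := a + st.S
  -- the Veronese quotient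
  have hs : (D.q : ℤ) ∣ s := dvd_add hdvd st.dvd
  obtain ⟨u', hu', huu⟩ := D.exists_preimage (j := s / D.q) (r := u) (by rw [Int.ediv_mul_cancel hs]; exact hu)
  have hK' : st.K = K.comap D.φ := (comap_map_eq D st.K).symm
  have hKm' : st.K ≤ m'.toIdeal := by
    intro x hx
    by_contra hxm
    have hmem : D.φ x ∈ m.toIdeal := le_of_isHomogeneous hm hK hKtop (Ideal.mem_map_of_mem _ hx)
    refine hxm ?_
    rw [← sum_pr 𝒜' x]
    refine Ideal.sum_mem _ fun j _ => ?_
    rcases lt_trichotomy j 0 with hj | rfl | hj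
    · have h0 : D.φ (pr 𝒜' j x) = 0 := (hpos (j * D.q) (mul_neg_of_neg_of_pos hj (Int.natCast_pos.2 D.hq))).le
        (D.map_mem (pr_mem 𝒜' j x))
      rw [show pr 𝒜' j x = 0 from D.hφ (h0.trans (map_zero D.φ).symm)]
      exact zero_mem _
    · have h1 : D.φ (pr 𝒜' 0 x) ∈ m.toIdeal :=
        le_of_isHomogeneous hm hK hKtop (Ideal.mem_map_of_mem _ (st.hK 0 hx))
      have h2 := D.map_mem (pr_mem 𝒜' 0 x)
      rw [zero_mul] at h2
      rw [hmsp] at h1
      have h3 : D.φ (pr 𝒜' 0 x) = 0 := by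
        rw [← pr_of_mem 𝒜 h2]
        exact mem_span_pos_pr_zero hpos h1
      rw [show pr 𝒜' 0 x = 0 from D.hφ (h3.trans (map_zero D.φ).symm)]
      exact zero_mem _
    · rw [hm'sp]
      exact Ideal.subset_span (Set.mem_iUnion₂.2 ⟨j, hj, pr_mem 𝒜' j x⟩)
  have hm'le : ∀ x ∈ m'.toIdeal, D.φ x ∈ m.toIdeal := by
    intro x hx
    rw [hm'sp] at hx
    refine (Ideal.span_le.2 ?_ : _ ≤ m.toIdeal.comap D.φ) hx
    intro z hz
    obtain ⟨j, hj, hz⟩ := Set.mem_iUnion₂.1 hz
    exact mem_of_pos hpos hm (mul_pos hj (Int.natCast_pos.2 D.hq)) (D.map_mem hz)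
  haveI hm'max : m'.toIdeal.IsMaximal := by
    refine Ideal.isMaximal_def.2 ⟨Ideal.IsPrime.ne_top inferInstance, fun J hJ => ?_⟩
    obtain ⟨x, hxJ, hxm⟩ := SetLike.exists_of_lt hJ
    have hrest : ∀ z : R', z - pr 𝒜' 0 z ∈ m'.toIdeal := fun z => by
      induction z using DirectSum.Decomposition.inductionOn 𝒜' with
      | zero => simp
      | @homogeneous i w =>
        rcases eq_or_ne i 0 with rfl | hi
        · rw [pr_of_mem 𝒜' w.2, sub_self]; exact zero_mem _
        rw [pr_of_mem_ne 𝒜' w.2 hi, sub_zero]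
        rcases lt_or_gt_of_ne hi with hi | hi
        · have h0 : D.φ (w : R') = 0 :=
            (hpos (i * D.q) (mul_neg_of_neg_of_pos hi (Int.natCast_pos.2 D.hq))).le (D.map_mem w.2)
          rw [show (w : R') = 0 from D.hφ (h0.trans (map_zero D.φ).symm)]; exact zero_mem _
        · rw [hm'sp]
          exact Ideal.subset_span (Set.mem_iUnion₂.2 ⟨i, hi, w.2⟩)
      | add u v hu hv =>
        rw [map_add, add_sub_add_comm]; exact add_mem hu hv
    have h2 := D.map_mem (pr_mem 𝒜' 0 x)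
    rw [zero_mul] at h2
    have h0m : D.φ (pr 𝒜' 0 x) ∉ m.toIdeal := fun h => by
      rw [hmsp] at h
      have h0 := mem_span_pos_pr_zero hpos h
      rw [pr_of_mem 𝒜 h2] at h0
      have := hrest x
      rw [show pr 𝒜' 0 x = 0 from D.hφ (h0.trans (map_zero D.φ).symm), sub_zero] at this
      exact hxm this
    obtain ⟨b, r, hr, hbr⟩ := hmax.exists_inv h0m
    have hr0 : pr 𝒜 0 r = 0 := mem_span_pos_pr_zero hpos (hmsp ▸ hr)
    obtain ⟨b', hb', hbb⟩ := D.exists_preimage (j := 0) (r := pr 𝒜 0 b) (by rw [zero_mul]; exact pr_mem 𝒜 0 b)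
    have hone : b' * pr 𝒜' 0 x = 1 := D.hφ (by
      have h3 := congrArg (pr 𝒜 0) hbr
      have h4 : pr 𝒜 0 (b * D.φ (pr 𝒜' 0 x)) = pr 𝒜 0 b * D.φ (pr 𝒜' 0 x) := by
        have := pr_smul 𝒜 𝒜 h2 0 b
        rwa [sub_zero, smul_eq_mul, smul_eq_mul, mul_comm, mul_comm (D.φ _)] at this
      rw [map_add, hr0, add_zero, h4, pr_of_mem 𝒜 (SetLike.one_mem_graded 𝒜)] at h3
      rw [map_mul, hbb, map_one, h3])
    refine (Ideal.eq_top_iff_one _).2 ?_
    rw [← hone]
    refine J.mul_mem_left _ ?_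
    have := sub_mem hxJ (hJ.le (hrest x))
    rwa [sub_sub_cancel] at this
  haveI : Nontrivial (R' ⧸ st.K) := Ideal.Quotient.nontrivial_iff.2 fun h =>
    Ideal.IsPrime.ne_top (inferInstance : m'.toIdeal.IsPrime) (top_le_iff.1 (h ▸ hKm'))
  have hprimes' : ∀ P : Ideal R', P.IsPrime → st.K ≤ P → P = m'.toIdeal := by
    intro P hP hle
    refine (hm'max.eq_of_le hP.ne_top fun x hx => hP.mem_of_pow_mem N ?_).symm
    refine hle ?_
    rw [hK', Ideal.mem_comap, map_pow]
    exact hN (Ideal.pow_mem_pow (hm'le x hx) N)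
  haveI : (m'.toIdeal.map (Ideal.Quotient.mk st.K)).IsMaximal :=
    Ideal.IsMaximal.map_of_surjective_of_ker_le Ideal.Quotient.mk_surjective (by rw [Ideal.mk_ker]; exact hKm')
  haveI : IsLocalRing (R' ⧸ st.K) := by
    refine IsLocalRing.of_unique_max_ideal ⟨m'.toIdeal.map (Ideal.Quotient.mk st.K), inferInstance, fun M hM => ?_⟩
    rw [← Ideal.map_comap_of_surjective _ Ideal.Quotient.mk_surjective M,
      hprimes' (M.comap (Ideal.Quotient.mk st.K)) inferInstance
      (fun w hw => by rw [Ideal.mem_comap, Ideal.Quotient.eq_zero_iff_mem.2 hw]; exact zero_mem _)]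
  have hmaxB : (maximalIdeal (R' ⧸ st.K)).comap (Ideal.Quotient.mk st.K) = m'.toIdeal :=
    hprimes' _ inferInstance (fun w hw => by rw [Ideal.mem_comap, Ideal.Quotient.eq_zero_iff_mem.2 hw]; exact zero_mem _)
  have hdimB : ringKrullDim (R' ⧸ st.K) = 0 := by
    haveI : Ring.KrullDimLE 0 (R' ⧸ st.K) := Ring.krullDimLE_zero_iff.2 fun P hP => by
      rw [← Ideal.map_comap_of_surjective _ Ideal.Quotient.mk_surjective P,
        hprimes' (P.comap (Ideal.Quotient.mk st.K)) inferInstance (fun w hw => by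
          rw [Ideal.mem_comap, Ideal.Quotient.eq_zero_iff_mem.2 hw]; exact zero_mem _)]
      infer_instance
    exact ringKrullDimZero_iff_ringKrullDim_eq_zero.1 inferInstance
  have hSB : Goren.SocSimple (R' ⧸ st.K) := by
    refine ⟨Ideal.Quotient.mk st.K u', fun h => ?_, fun x hx => ?_, fun z hz => ?_⟩
    · rw [Ideal.Quotient.eq_zero_iff_mem, hK', Ideal.mem_comap, huu] at h
      exact huK h
    · obtain ⟨x, rfl⟩ := Ideal.Quotient.mk_surjective x
      rw [← map_mul, Ideal.Quotient.eq_zero_iff_mem, hK', Ideal.mem_comap, map_mul, huu]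
      exact hupos _ (hm'le x (hmaxB ▸ hx))
    · obtain ⟨z, rfl⟩ := Ideal.Quotient.mk_surjective z
      have hzK : ∀ x ∈ m'.toIdeal, x * z ∈ st.K := fun x hx => by
        rw [← Ideal.Quotient.eq_zero_iff_mem, map_mul]
        exact hz _ (show x ∈ (maximalIdeal (R' ⧸ st.K)).comap (Ideal.Quotient.mk st.K) from hmaxB.symm ▸ hx)
      have hzj : ∀ j, ∀ x ∈ m'.toIdeal, x * pr 𝒜' j z ∈ st.K := by
        intro j x hx
        rw [← sum_pr 𝒜' x, Finset.sum_mul]
        refine Ideal.sum_mem _ fun i _ => ?_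
        have h1 := pr_smul 𝒜' 𝒜' (pr_mem 𝒜' i x) (i + j) z
        rw [add_sub_cancel_left] at h1
        rw [show pr 𝒜' i x * pr 𝒜' j z = pr 𝒜' (i + j) (pr 𝒜' i x • z) from h1.symm]
        exact st.hK _ (hzK _ (m'.isHomogeneous i hx))
      have hoff : ∀ j : ℤ, j * D.q ≠ s → pr 𝒜' j z ∈ st.K := by
        intro j hj
        by_contra hcon
        set w := D.φ (pr 𝒜' j z)
        have hw : w ∈ 𝒜 (j * D.q) := D.map_mem (pr_mem 𝒜' j z)
        have hwK : w ∉ K := fun h => hcon (by rw [hK']; exact h)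
        let Sdeg : Set ℤ := {d | ∃ r ∈ 𝒜 d, r * w ∉ K}
        have hne : Sdeg.Nonempty := ⟨0, 1, SetLike.one_mem_graded 𝒜, by rwa [one_mul]⟩
        have hbdd : BddAbove Sdeg := ⟨s - j * D.q, fun d ⟨r, hr, hrw⟩ => by
          by_contra hlt
          exact hrw (hhigh (d + j * D.q) (by omega) _ (SetLike.mul_mem_graded hr hw))⟩
        obtain ⟨r, hr, hrw⟩ : sSup Sdeg ∈ Sdeg := Int.csSup_mem hne hbdd
        set d := sSup Sdeg
        have hsocr : ∀ v ∈ m.toIdeal, v * (r * w) ∈ K := by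
          intro v hv
          rw [← sum_pr 𝒜 v, Finset.sum_mul]
          refine Ideal.sum_mem _ fun i _ => ?_
          rcases le_or_gt i 0 with hi | hi
          · rcases eq_or_lt_of_le hi with rfl | hi
            · have h0m : pr 𝒜 0 v ∈ m.toIdeal := m.isHomogeneous 0 hv
              rw [hmsp] at h0m
              have := mem_span_pos_pr_zero hpos h0m
              rw [pr_of_mem 𝒜 (pr_mem 𝒜 0 v)] at this
              rw [this, zero_mul]; exact zero_mem _
            · rw [show pr 𝒜 i v = 0 from (hpos i hi).le (pr_mem 𝒜 i v), zero_mul]; exact zero_mem _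
          · by_contra hvK
            rw [← mul_assoc] at hvK
            have : i + d ≤ d := le_csSup hbdd ⟨_, SetLike.mul_mem_graded (pr_mem 𝒜 i v) hr, hvK⟩
            omega
        obtain ⟨c, hc⟩ := hsoc _ hsocr
        have hrwd : r * w ∈ 𝒜 (d + j * D.q) := SetLike.mul_mem_graded hr hw
        have hdeg : d + j * D.q = s := by
          by_contra hne'
          refine hrw ?_
          have h1 := hK (d + j * D.q) hc
          rw [show (DirectSum.decompose 𝒜 (r * w - c * u) (d + j * D.q) : R) = pr 𝒜 (d + j * D.q) (r * w - c * u) from rfl,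
            map_sub, pr_of_mem 𝒜 hrwd, mul_comm c u, ← smul_eq_mul u c, pr_smul 𝒜 𝒜 hu, smul_eq_mul] at h1
          have h2 : u * pr 𝒜 (d + j * D.q - s) c ∈ K := by
            rcases lt_or_gt_of_ne (sub_ne_zero.2 hne') with hneg | hposd
            · rw [show pr 𝒜 (d + j * D.q - s) c = 0 from (hpos _ hneg).le (pr_mem 𝒜 _ c), mul_zero]; exact zero_mem _
            · rw [mul_comm]
              exact hupos _ (mem_of_pos hpos hm hposd (pr_mem 𝒜 _ c))
          exact (Submodule.sub_mem_iff_left _ h2).1 h1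
        have hd0 : 0 < d := by
          have hd1 : 0 ≤ d := le_csSup hbdd ⟨1, SetLike.one_mem_graded 𝒜, by rwa [one_mul]⟩
          omega
        have hdq : (D.q : ℤ) ∣ d := by
          rw [show d = s - j * D.q by omega]
          exact dvd_sub hs (Dvd.intro_left _ rfl)
        obtain ⟨r', hr', hrr⟩ := D.exists_preimage (j := d / D.q) (r := r) (by rw [Int.ediv_mul_cancel hdq]; exact hr)
        have hr'm : r' ∈ m'.toIdeal := by
          rw [hm'sp]
          refine Ideal.subset_span (Set.mem_iUnion₂.2 ⟨_, ?_, hr'⟩)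
          exact Int.ediv_pos_of_pos_of_dvd hd0 (Int.natCast_nonneg _) hdq
        have := Ideal.mem_map_of_mem D.φ (hzj j r' hr'm)
        rw [map_mul, hrr] at this
        exact hrw this
      refine Ideal.mem_span_singleton'.2 ?_
      set j₀ := s / (D.q : ℤ)
      have hj₀ : j₀ * D.q = s := Int.ediv_mul_cancel hs
      obtain ⟨c, hc⟩ := hsoc (D.φ (pr 𝒜' j₀ z)) (fun v hv => by
        rw [← sum_pr 𝒜 v, Finset.sum_mul]
        refine Ideal.sum_mem _ fun i _ => ?_
        rcases le_or_gt i 0 with hi | hi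
        · rcases eq_or_lt_of_le hi with rfl | hi
          · have h0m : pr 𝒜 0 v ∈ m.toIdeal := m.isHomogeneous 0 hv
            rw [hmsp] at h0m
            have := mem_span_pos_pr_zero hpos h0m
            rw [pr_of_mem 𝒜 (pr_mem 𝒜 0 v)] at this
            rw [this, zero_mul]; exact zero_mem _
          · rw [show pr 𝒜 i v = 0 from (hpos i hi).le (pr_mem 𝒜 i v), zero_mul]; exact zero_mem _
        · refine hhigh (i + j₀ * D.q) (by omega) _ (SetLike.mul_mem_graded (pr_mem 𝒜 i v) (D.map_mem (pr_mem 𝒜' j₀ z))))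
      obtain ⟨c', -, hcc⟩ := D.exists_preimage (j := 0) (r := pr 𝒜 0 c) (by rw [zero_mul]; exact pr_mem 𝒜 0 c)
      refine ⟨Ideal.Quotient.mk st.K c', ?_⟩
      rw [← map_mul]
      refine Ideal.Quotient.eq.2 ?_
      have h1 : pr 𝒜' j₀ z - c' * u' ∈ st.K := by
        rw [hK', Ideal.mem_comap, map_sub, map_mul, huu, hcc]
        have h2 := hK s hc
        rw [show (DirectSum.decompose 𝒜 (D.φ (pr 𝒜' j₀ z) - c * u) s : R) = pr 𝒜 s (D.φ (pr 𝒜' j₀ z) - c * u) from rfl,
          map_sub, pr_of_mem 𝒜 (hj₀ ▸ D.map_mem (pr_mem 𝒜' j₀ z)), mul_comm c u, ← smul_eq_mul u c, pr_smul 𝒜 𝒜 hu,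
          smul_eq_mul, sub_self, mul_comm] at h2
        exact h2
      have h3 : z - pr 𝒜' j₀ z ∈ st.K := by
        refine mem_of_pr_mem 𝒜' fun j => ?_
        rcases eq_or_ne j j₀ with rfl | hne
        · rw [map_sub, pr_of_mem 𝒜' (pr_mem 𝒜' j₀ z), sub_self]; exact zero_mem _
        · rw [map_sub, pr_of_mem_ne 𝒜' (pr_mem 𝒜' j₀ z) hne.symm, sub_zero]
          exact hoff j fun h => hne (D.mul_right_inj (h.trans hj₀.symm))
      have := neg_mem (add_mem h3 h1)
      rwa [show -(z - pr 𝒜' j₀ z + (pr 𝒜' j₀ z - c' * u')) = c' * u' - z by ring] at this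
  have hGB := (Goren.gorenstein_iff_socSimple (R' ⧸ st.K) hdimB).2 hSB
  refine st.lift (maximalIdeal (R' ⧸ st.K)) hmaxB ?_
  haveI := hGB
  exact Goren.isGorenstein_of_equiv (B := Localization.AtPrime (maximalIdeal (R' ⧸ st.K)))
    (IsLocalization.atUnits (R' ⧸ st.K) (maximalIdeal (R' ⧸ st.K)).primeCompl
      (fun z hz => IsLocalRing.notMem_maximalIdeal.1 hz)).toRingEquiv

end

end Groth.Agent.GrGor
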