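import Groth.Agent.GrCore.GorConv
import Groth.Agent.GrGor.Irr
import Groth.Agent.GrGor.Converse
import Groth.Agent.GrCanon.Degree
import Groth.Agent.GrLCVeronese.HMap
import Groth.Agent.LocH.TopDegree
import Groth.Agent.GrLCHull.Hull

/-!
A standard graded Cohen–Macaulay ring with a Gorenstein Veronese subring is Gorenstein.
-/

set_option autoImplicit false
set_option backward.isDefEq.respectTransparency false
set_option backward.isDefEq.respectTransparency.types false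
set_option linter.unusedSectionVars false
set_option linter.style.haveILetI false
universe u

open scoped Classical
open DirectSum CategoryTheory Groth.Agent.GrLCLib Groth.Agent.GrLCVeronese

noncomputable section

namespace Groth.Agent.GrGor

section baer

variable {R : Type u} [CommRing R] {M : Type u} [AddCommGroup M] [Module R M]

/-- A regular element acts surjectively on an injective module. -/
lemma exists_smul_eq (hM : Module.Baer R M) {x : R} (hx : IsSMulRegular R x) (v : M) : ∃ w : M, x • w = v := by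
  let L : R →ₗ[R] R := LinearMap.toSpanSingleton R R x
  let G : R →ₗ[R] M := LinearMap.toSpanSingleton R M v
  have hker : LinearMap.ker L ≤ LinearMap.ker G := fun a ha => by
    have ha' : a * x = 0 := ha
    have : a = 0 := isSMulRegular_iff_right_eq_zero_of_smul.1 hx a (by rw [smul_eq_mul, mul_comm]; exact ha')
    rw [LinearMap.mem_ker, this, map_zero]
  obtain ⟨g, hg⟩ := hM (LinearMap.range L) ((LinearMap.ker L).liftQ G hker ∘ₗ L.quotKerEquivRange.symm.toLinearMap)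
  refine ⟨g 1, ?_⟩
  rw [← map_smul, smul_eq_mul, mul_one, hg x ⟨1, one_mul x⟩]
  show (LinearMap.ker L).liftQ G hker (L.quotKerEquivRange.symm ⟨x, _⟩) = v
  rw [show L.quotKerEquivRange.symm ⟨x, ⟨1, one_mul x⟩⟩ = Submodule.Quotient.mk 1 from
    (LinearEquiv.symm_apply_eq _).2 (Subtype.ext (one_mul x).symm)]
  exact one_smul R v

/-- The same for the part killed by the first element of a regular pair. -/
lemma exists_smul_eq_pair (hM : Module.Baer R M) {x y : R} (hx : IsSMulRegular R x)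
    (hy : ∀ b : R, y * b ∈ Ideal.span ({x} : Set R) → b ∈ Ideal.span ({x} : Set R)) {u : M} (hu : x • u = 0) :
    ∃ v : M, x • v = 0 ∧ y • v = u := by
  let L : R × R →ₗ[R] R := (LinearMap.toSpanSingleton R R x).coprod (LinearMap.toSpanSingleton R R y)
  let G : R × R →ₗ[R] M := LinearMap.toSpanSingleton R M u ∘ₗ LinearMap.snd R R R
  have hker : LinearMap.ker L ≤ LinearMap.ker G := by
    rintro ⟨a, b⟩ hab
    have hab' : a * x + b * y = 0 := hab
    obtain ⟨c, rfl⟩ := Ideal.mem_span_singleton'.1 (hy b (Ideal.mem_span_singleton'.2 ⟨-a, by linear_combination -hab'⟩))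
    show (c * x) • u = 0
    rw [mul_smul, hu, smul_zero]
  obtain ⟨g, hg⟩ := hM (LinearMap.range L) ((LinearMap.ker L).liftQ G hker ∘ₗ L.quotKerEquivRange.symm.toLinearMap)
  have key : ∀ p : R × R, g (L p) = p.2 • u := fun p => by
    rw [hg (L p) ⟨p, rfl⟩]
    show (LinearMap.ker L).liftQ G hker (L.quotKerEquivRange.symm ⟨L p, _⟩) = _
    rw [show L.quotKerEquivRange.symm ⟨L p, ⟨p, rfl⟩⟩ = Submodule.Quotient.mk p from
      (LinearEquiv.symm_apply_eq _).2 (Subtype.ext rfl)]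
    rfl
  refine ⟨g 1, ?_, ?_⟩
  · rw [← map_smul, show x • (1 : R) = L (1, 0) by simp [L], key, zero_smul]
  · rw [← map_smul, show y • (1 : R) = L (0, 1) by simp [L], key, one_smul]

lemma exists_pow_smul_eq {x : R} (h : ∀ v : M, ∃ w, x • w = v) (k : ℕ) (v : M) : ∃ w, x ^ k • w = v := by
  induction k generalizing v with
  | zero => exact ⟨v, by rw [pow_zero, one_smul]⟩
  | succ k ih =>
    obtain ⟨w, rfl⟩ := ih v
    obtain ⟨w', rfl⟩ := h w
    exact ⟨w', by rw [pow_succ, mul_smul]⟩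

end baer

section hull

variable {R : Type u} [CommRing R] [IsNoetherianRing R] {𝒜 : ℤ → AddSubgroup R} [GradedRing 𝒜]
  {m : HomogeneousIdeal 𝒜} (hpos : ∀ k : ℤ, k < 0 → 𝒜 k = ⊥) (h0 : IsField (GrLC.deg0 𝒜))
  (hm : GrLC.IsStarLocal 𝒜 m) (hmsp : m.toIdeal = Ideal.span (⋃ k ∈ Set.Ioi (0 : ℤ), (𝒜 k : Set R)))
  {E' : Type u} [AddCommGroup E'] [Module R E'] {𝓔 : ℤ → AddSubgroup E'} [DirectSum.Decomposition 𝓔]
  [SetLike.GradedSMul 𝒜 𝓔] {e : (R ⧸ m.toIdeal) →ₗ[R] E'}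

include hpos hmsp in
lemma pr_zero_of_mem {r : R} (hr : r ∈ m.toIdeal) : pr 𝒜 0 r = 0 := by
  have h : pr 𝒜 0 r ∈ m.toIdeal := m.isHomogeneous 0 hr
  rw [hmsp] at h
  exact (pr_of_mem 𝒜 (pr_mem 𝒜 0 r)).symm.trans (mem_span_pos_pr_zero hpos h)

include h0 in
lemma exists_inv_zero {c : R} (hc : c ∈ 𝒜 0) (hc0 : c ≠ 0) : ∃ d ∈ 𝒜 0, d * c = 1 := by
  obtain ⟨⟨d, hd⟩, hd'⟩ := h0.mul_inv_cancel (a := ⟨c, hc⟩) fun h => hc0 (congrArg Subtype.val h)
  exact ⟨d, hd, (mul_comm d c).trans (congrArg Subtype.val hd')⟩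

lemma e_one_mem (he : GrLC.IsStarInjHull 𝒜 (GrLC.quotGr 𝒜 m) 𝓔 e) : e 1 ∈ 𝓔 0 :=
  he.1.grHom 0 1 ⟨1, SetLike.one_mem_graded 𝒜, rfl⟩

include hm in
lemma e_one_ne (he : GrLC.IsStarInjHull 𝒜 (GrLC.quotGr 𝒜 m) 𝓔 e) : e 1 ≠ 0 := fun h => by
  have h1 : Ideal.Quotient.mk m.toIdeal 1 = 0 := he.1.injective (h.trans (map_zero e).symm)
  exact isStarLocal_ne_top hm ((Ideal.eq_top_iff_one _).2 (Ideal.Quotient.eq_zero_iff_mem.1 h1))

lemma e_mk (r : R) : e (Ideal.Quotient.mk m.toIdeal r) = r • e 1 := by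
  rw [← map_smul, Algebra.smul_def, mul_one]
  rfl

include hpos h0 hm in
/-- Every nonzero homogeneous element of the *hull of `R/m` reaches `e 1`. -/
lemma exists_smul_eq_one (he : GrLC.IsStarInjHull 𝒜 (GrLC.quotGr 𝒜 m) 𝓔 e) {g : ℤ} {y : E'} (hy : y ∈ 𝓔 g)
    (hy0 : y ≠ 0) : ∃ r ∈ 𝒜 (-g), r • y = e 1 := by
  obtain ⟨z, hz, hz0⟩ := Submodule.exists_mem_ne_zero_of_ne_bot (he.essential (Submodule.span R {y})
    ((GrLCHull.homog_iff 𝓔).2 (GrLCHull.homog_span_singleton 𝒜 𝓔 hy))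
    (fun h => hy0 ((Submodule.span_singleton_eq_bot).1 h)))
  obtain ⟨t, rfl⟩ := Submodule.mem_span_singleton.1 hz.1
  obtain ⟨q, hq⟩ := hz.2
  obtain ⟨q, rfl⟩ := Ideal.Quotient.mk_surjective q
  have h1 : t • y = pr 𝒜 0 q • e 1 := by
    rw [← e_mk, ← hq, Ideal.Quotient.eq.2 (sub_pr_zero_mem hpos hm q)]
  have hc : pr 𝒜 0 q ≠ 0 := fun h => hz0 (by rw [h1, h, zero_smul])
  obtain ⟨d, hd, hdc⟩ := exists_inv_zero h0 (pr_mem 𝒜 0 q) hc
  have h2 : pr 𝒜 (0 - g) t • y = pr 𝒜 0 q • e 1 := by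
    rw [← pr_smul_left 𝒜 𝓔 hy, h1, pr_of_mem 𝓔 (zero_add (0 : ℤ) ▸ smul_mem 𝒜 𝓔 (pr_mem 𝒜 0 q) (e_one_mem he))]
  refine ⟨d * pr 𝒜 (0 - g) t, ?_, ?_⟩
  · simpa using SetLike.mul_mem_graded hd (pr_mem 𝒜 (0 - g) t)
  · rw [mul_smul, h2, ← mul_smul, hdc, one_smul]

include hpos h0 hm hmsp in
lemma exists_eq_smul_one (he : GrLC.IsStarInjHull 𝒜 (GrLC.quotGr 𝒜 m) 𝓔 e) {y : E'} (hy : y ∈ 𝓔 0) :
    ∃ c ∈ 𝒜 0, y = c • e 1 := by
  by_cases hy0 : y = 0
  · exact ⟨0, zero_mem _, by rw [hy0, zero_smul]⟩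
  obtain ⟨r, hr, hry⟩ := exists_smul_eq_one hpos h0 hm he hy hy0
  rw [neg_zero] at hr
  have hr0 : r ≠ 0 := fun h => e_one_ne hm he (by rw [← hry, h, zero_smul])
  obtain ⟨d, hd, hdr⟩ := exists_inv_zero h0 hr hr0
  exact ⟨d, hd, by rw [← hry, ← mul_smul, hdr, one_smul]⟩

end hull

/-- In the standard graded case `m^q` pushes everything into the degrees divisible by `q`. -/
lemma smul_mem_of_dvd {R : Type u} [CommRing R] {𝒜 : ℤ → AddSubgroup R} [GradedRing 𝒜] {m : HomogeneousIdeal 𝒜}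
    (hm1 : m.toIdeal = Ideal.span ((𝒜 1 : AddSubgroup R) : Set R)) {q : ℕ} (hq : 0 < q)
    {X : Type u} [AddCommGroup X] [Module R X] (𝒳 : ℤ → AddSubgroup X) [DirectSum.Decomposition 𝒳]
    [SetLike.GradedSMul 𝒜 𝒳] (S : Submodule R X) {g : ℤ} {x : X} (hx : x ∈ 𝒳 g)
    (h : ∀ i j : ℤ, i + g = j * q → ∀ r ∈ 𝒜 i, r • x ∈ S) {r : R} (hr : r ∈ m.toIdeal ^ q) : r • x ∈ S := by
  obtain ⟨i, hi, hiq⟩ : ∃ i : ℕ, i ≤ q ∧ ∃ j : ℤ, (i : ℤ) + g = j * q := by
    have hq' : (0 : ℤ) < q := by exact_mod_cast hq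
    have h0 := Int.emod_nonneg (-g) hq'.ne'
    have h1 := Int.emod_lt_of_pos (-g) hq'
    refine ⟨((-g) % (q : ℤ)).toNat, by omega, -((-g) / (q : ℤ)), ?_⟩
    rw [Int.toNat_of_nonneg h0]
    linear_combination Int.emod_def (-g) (q : ℤ)
  obtain ⟨j, hij⟩ := hiq
  have hr' : r ∈ Ideal.span ((𝒜 i : AddSubgroup R) : Set R) :=
    span_one_pow_le i (hm1 ▸ Ideal.pow_le_pow_right hi hr)
  clear hr
  induction hr' using Submodule.span_induction with
  | mem w hw => exact h i j hij w hw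
  | zero => rw [zero_smul]; exact zero_mem _
  | add a b _ _ ha hb => rw [add_smul]; exact add_mem ha hb
  | smul c w _ hw => rw [smul_eq_mul, mul_smul]; exact Submodule.smul_mem _ c hw

variable {R : Type u} [CommRing R] [LocCoh.IsCohenMacaulayRing R] {𝒜 : ℤ → AddSubgroup R} [GradedRing 𝒜]
  {m : HomogeneousIdeal 𝒜} {R' : Type u} [CommRing R'] {𝒜' : ℤ → AddSubgroup R'} [GradedRing 𝒜']
  (D : Datum 𝒜 𝒜')

theorem gorenstein_of_veronese [LocCoh.IsGorensteinRing R'] (hpos : ∀ k : ℤ, k < 0 → 𝒜 k = ⊥)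
    (h0 : IsField (GrLC.deg0 𝒜)) (hm : GrLC.IsStarLocal 𝒜 m)
    (hmsp : m.toIdeal = Ideal.span (⋃ k ∈ Set.Ioi (0 : ℤ), (𝒜 k : Set R)))
    (hstd : Ideal.span (⋃ k ∈ Set.Ioi (0 : ℤ), (𝒜 k : Set R)) = Ideal.span ((𝒜 1 : AddSubgroup R) : Set R))
    {n : ℕ} (hn : ringKrullDim R = n) (h2 : 2 ≤ n) (I : GrLC.StarInjRes 𝒜 𝒜) :
    LocCoh.IsGorensteinRing R ∧ ∃ a : ℤ, GrLC.endDeg (I.Hgr m n) = ((a : WithTop ℤ) : WithBot (WithTop ℤ)) ∧
      (D.q : ℤ) ∣ a := by
  have hm1 : m.toIdeal = Ideal.span ((𝒜 1 : AddSubgroup R) : Set R) := hmsp.trans hstd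
  haveI : Nontrivial R := by
    by_contra h
    haveI := not_nontrivial_iff_subsingleton.1 h
    rw [ringKrullDim_eq_bot_of_subsingleton] at hn
    exact WithBot.bot_ne_coe hn
  haveI hmax : m.toIdeal.IsMaximal := isMaximal_of_isStarLocal hpos hm
  have hnh : m.toIdeal.height = (n : ℕ∞) := height_eq m n hpos hm hn
  haveI : LocCoh.IsCohenMacaulayRing R' :=
    { isCohenMacaulayLocalRing_localization := fun p _ =>
        haveI := LocCoh.IsGorensteinRing.isGorensteinLocalRing_localization (A := R') p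
        Goren.isCohenMacaulay _ }
  have hm' := isStarLocal_irr D hpos h0
  let m' := irr 𝒜'
  have hm'sp : m'.toIdeal = Ideal.span (⋃ k ∈ Set.Ioi (0 : ℤ), (𝒜' k : Set R')) := irr_toIdeal 𝒜'
  have hpos' := hpos_veronese D hpos
  have h0' : IsField (GrLC.deg0 𝒜') := by
    refine ⟨⟨0, 1, fun h => ?_⟩, mul_comm, fun {a} ha => ?_⟩
    · have h1 : (1 : R') = 0 := (congrArg Subtype.val h).symm
      exact one_ne_zero (α := R) (by rw [← map_one D.φ, h1, map_zero])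
    · have hmem : D.φ a.1 ∈ 𝒜 0 := by simpa using D.map_mem a.2
      obtain ⟨d, hd, hda⟩ := exists_inv_zero h0 hmem (fun h => ha (Subtype.ext (D.hφ (h.trans (map_zero _).symm))))
      obtain ⟨d', hd', rfl⟩ := D.exists_preimage (j := 0) (r := d) (by rw [zero_mul]; exact hd)
      exact ⟨⟨d', hd'⟩, Subtype.ext (D.hφ (by
        show D.φ (a.1 * d') = D.φ 1
        rw [map_mul, map_one, mul_comm]; exact hda))⟩
  haveI : m'.toIdeal.IsPrime := GrCore.isPrime_starLocal hm'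
  obtain ⟨n', hn''⟩ := ENat.ne_top_iff_exists.1 (m'.toIdeal.height_ne_top (Ideal.IsPrime.ne_top inferInstance))
  have hn' : m'.toIdeal.height = (n' : ℕ∞) := hn''.symm
  obtain ⟨F⟩ := nonempty_starInjRes 𝒜' 𝒜'
  letI decH : DirectSum.Decomposition (I.Hgr m n) := (isInternal_Hgr I m n).chooseDecomposition
  haveI gsH : SetLike.GradedSMul 𝒜 (I.Hgr m n) := ⟨fun {a b r x} hr hx => by
    obtain ⟨z, hz, rfl⟩ := hx
    exact ⟨r • z, SetLike.GradedSMul.smul_mem (A := 𝒜) (B := (I.X n).gr) hr hz, map_smul (I.toH m n) r z⟩⟩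
  let gφ : R' →ₛₗ[D.φ] R :=
    { toFun := D.φ
      map_add' := map_add D.φ
      map_smul' := map_mul D.φ }
  obtain ⟨Ψ, hΨ⟩ := exists_hmap D hmsp hm'sp I F gφ D.hφ D.hdeg n
  -- a regular pair
  have hidep := (Groth.Agent.S14424.result R).1 inferInstance m.toIdeal (isStarLocal_ne_top hm)
  obtain ⟨rs, hlen, hrs, hrm⟩ := LocH.exists_isWeaklyRegular m.toIdeal 2 R
    ((LocH.le_idealDepth_iff m.toIdeal R 2).1 (by rw [hidep, hnh]; exact_mod_cast h2))
  obtain _ | ⟨x, _ | ⟨y, _ | ⟨z, zs⟩⟩⟩ := rs <;> simp at hlen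
  obtain ⟨hxreg, hyreg'⟩ := (RingTheory.Sequence.isWeaklyRegular_cons_iff R x [y]).1 hrs
  have hyreg := ((RingTheory.Sequence.isWeaklyRegular_cons_iff (QuotSMulTop x R) y []).1 hyreg').1
  have hxm : x ∈ m.toIdeal := hrm x (by simp)
  have hym : y ∈ m.toIdeal := hrm y (by simp)
  have hy : ∀ b : R, y * b ∈ Ideal.span ({x} : Set R) → b ∈ Ideal.span ({x} : Set R) := by
    intro b hb
    obtain ⟨c, hc⟩ := Ideal.mem_span_singleton'.1 hb
    have h1 : (Submodule.Quotient.mk b : QuotSMulTop x R) = 0 := by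
      refine isSMulRegular_iff_right_eq_zero_of_smul.1 hyreg _ ?_
      rw [← Submodule.Quotient.mk_smul]
      exact (Submodule.Quotient.mk_eq_zero _).2 ((Submodule.mem_smul_pointwise_iff_exists _ _ _).2
        ⟨c, trivial, by rw [smul_eq_mul, smul_eq_mul, mul_comm, hc]⟩)
    obtain ⟨c', -, hc'⟩ := (Submodule.mem_smul_pointwise_iff_exists _ _ _).1 ((Submodule.Quotient.mk_eq_zero _).1 h1)
    exact Ideal.mem_span_singleton'.2 ⟨c', by rw [mul_comm, ← smul_eq_mul]; exact hc'⟩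
  obtain ⟨eH⟩ := H_equiv_localCohomology I m n
  have hxH : ∀ v : I.H m n, ∃ w, x • w = v := fun v => by
    obtain ⟨w, hw⟩ := LocH.smul_surjective_top m.toIdeal (f := x) hn.le (fun p hp _ hxp =>
      Set.disjoint_left.1 (Ideal.disjoint_nonZeroDivisors_of_mem_minimalPrimes hp) hxp
        (mem_nonZeroDivisors_iff_right.2 fun b hb =>
          isSMulRegular_iff_right_eq_zero_of_smul.1 hxreg b (by rw [smul_eq_mul, mul_comm]; exact hb))) R (eH v)
    refine ⟨eH.symm w, ?_⟩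
    rw [← map_smul, show x • w = eH v from hw, eH.symm_apply_apply]
  have hxq : x ^ D.q ∈ m.toIdeal ^ D.q := Ideal.pow_mem_pow hxm _
  have hyq : y ^ D.q ∈ m.toIdeal ^ D.q := Ideal.pow_mem_pow hym _
  -- dimensions agree
  obtain rfl : n' = n := by
    by_contra hne
    have hvan : ∀ j, Van F m' n j := fun j => by
      rcases lt_or_gt_of_ne hne with hlt | hlt
      · exact GrCore.van_of_gt hm' F hn' n hlt j
      · refine van_of_subsingleton F m' ((LocH.le_idealDepth_iff m'.toIdeal R' n').1 ?_ n hlt) j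
        rw [(Groth.Agent.S14424.result R').1 inferInstance m'.toIdeal (Ideal.IsPrime.ne_top inferInstance), hn']
    have hzero : ∀ j : ℤ, ∀ v ∈ I.Hgr m n (j * D.q), v = 0 := fun j v hv => by
      obtain ⟨w, hw, rfl⟩ := (hΨ j).2 v hv
      rw [(hgr_eq_bot_iff F m' n j).2 (hvan j)] at hw
      rw [(AddSubgroup.mem_bot).1 hw, map_zero]
    have hkill : ∀ r ∈ m.toIdeal ^ D.q, ∀ v : I.H m n, r • v = 0 := by
      intro r hr v
      induction v using DirectSum.Decomposition.inductionOn (I.Hgr m n) with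
      | zero => rw [smul_zero]
      | @homogeneous g w =>
        exact (Submodule.mem_bot R).1 (smul_mem_of_dvd hm1 D.hq (I.Hgr m n) ⊥ w.2 (fun i j hij r' hr' =>
          (Submodule.mem_bot R).2 (hzero j _ (hij ▸ smul_mem 𝒜 (I.Hgr m n) hr' w.2))) hr)
      | add a b ha hb => rw [smul_add, ha, hb, add_zero]
    haveI hsub : Subsingleton (I.H m n) := subsingleton_of_forall_eq 0 fun v => by
      obtain ⟨w, rfl⟩ := exists_pow_smul_eq hxH D.q v
      exact hkill _ hxq w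
    have h1 : ((n + 1 : ℕ) : ℕ∞) ≤ LocCoh.idealDepth m.toIdeal R := by
      refine (LocH.le_idealDepth_iff m.toIdeal R (n + 1)).2 fun i hi => ?_
      rcases Nat.lt_succ_iff_lt_or_eq.1 hi with hi | rfl
      · exact (LocH.le_idealDepth_iff m.toIdeal R n).1 (by rw [hidep, hnh]) i hi
      · exact eH.symm.toEquiv.subsingleton
    rw [hidep, hnh] at h1
    exact Nat.not_succ_le_self _ (by exact_mod_cast h1)
  letI decH' : DirectSum.Decomposition (F.Hgr m' n') := (isInternal_Hgr F m' n').chooseDecomposition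
  haveI gsH' : SetLike.GradedSMul 𝒜' (F.Hgr m' n') := ⟨fun {a b r x} hr hx => by
    obtain ⟨z, hz, rfl⟩ := hx
    exact ⟨r • z, SetLike.GradedSMul.smul_mem (A := 𝒜') (B := (F.X n').gr) hr hz, map_smul (F.toH m' n') r z⟩⟩
  -- the two hulls
  letI decQ : DirectSum.Decomposition (GrLC.quotGr 𝒜 m) :=
    quotDec 𝒜 m.toIdeal (fun x hx g => m.isHomogeneous g hx)
  haveI : SetLike.GradedSMul 𝒜 (GrLC.quotGr 𝒜 m) := ⟨fun {a b r x} hr hx => by
    obtain ⟨z, hz, rfl⟩ := hx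
    exact ⟨r * z, SetLike.mul_mem_graded hr hz, map_mul (Ideal.Quotient.mk m.toIdeal) r z⟩⟩
  obtain ⟨Y, e, he⟩ := GrLCHull.exists_hull 𝒜 (GrLC.quotGr 𝒜 m)
  letI decQ' : DirectSum.Decomposition (GrLC.quotGr 𝒜' m') :=
    quotDec 𝒜' m'.toIdeal (fun x hx g => m'.isHomogeneous g hx)
  haveI : SetLike.GradedSMul 𝒜' (GrLC.quotGr 𝒜' m') := ⟨fun {a b r x} hr hx => by
    obtain ⟨z, hz, rfl⟩ := hx
    exact ⟨r * z, SetLike.mul_mem_graded hr hz, map_mul (Ideal.Quotient.mk m'.toIdeal) r z⟩⟩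
  obtain ⟨Y', e', he'⟩ := GrLCHull.exists_hull 𝒜' (GrLC.quotGr 𝒜' m')
  obtain ⟨δ, φ', hφ'⟩ := GrCore.exists_top_equiv hm' F hn' Y'.carrier Y'.gr e' he'
  letI := shiftDec Y'.gr δ
  have hφsymm : ∀ g : ℤ, ∀ v ∈ Y'.gr (g + δ), φ'.symm v ∈ F.Hgr m' n' g := by
    intro g v hv
    have h := pr_map (F.Hgr m' n') (shiftPiece Y'.gr δ) (f := φ'.toLinearMap) hφ' g (φ'.symm v)
    rw [LinearEquiv.coe_coe, φ'.apply_symm_apply, pr_of_mem (shiftPiece Y'.gr δ) (show v ∈ shiftPiece Y'.gr δ g from hv)] at h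
    have h3 : pr (F.Hgr m' n') g (φ'.symm v) = φ'.symm v :=
      φ'.injective (h.symm.trans (φ'.apply_symm_apply v).symm)
    rw [← h3]
    exact pr_mem _ _ _
  let z₀' := φ'.symm (e' 1)
  have hz₀' : z₀' ∈ F.Hgr m' n' (-δ) := hφsymm _ _ (by rw [neg_add_cancel]; exact e_one_mem he')
  have hz₀'ne : z₀' ≠ 0 := fun h => e_one_ne hm' he' (by
    rw [← φ'.apply_symm_apply (e' 1), show φ'.symm (e' 1) = 0 from h, map_zero])
  set d₀ : ℤ := -δ * D.q with hd₀def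
  let z₀ := Ψ z₀'
  have hz₀ : z₀ ∈ I.Hgr m n' d₀ := ((hΨ _).1 _ hz₀').1
  have hz₀ne : z₀ ≠ 0 := fun h => hz₀'ne (((hΨ _).1 _ hz₀').2 h)
  have hreach : ∀ (j : ℤ) (v : I.H m n'), v ∈ I.Hgr m n' (j * D.q) → v ≠ 0 → ∃ r : R, r • v = z₀ := by
    intro j v hv hv0
    obtain ⟨w, hw, rfl⟩ := (hΨ j).2 v hv
    have hw0 : φ' w ≠ 0 := fun h => hv0 (by rw [φ'.injective (h.trans (map_zero φ').symm), map_zero])
    obtain ⟨r, -, hrw⟩ := exists_smul_eq_one hpos' h0' hm' he' (hφ' j w hw) hw0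
    refine ⟨D.φ r, ?_⟩
    rw [← map_smulₛₗ Ψ r w]
    refine congrArg Ψ (φ'.injective ?_)
    rw [map_smul, φ'.apply_symm_apply]
    exact hrw
  -- the map to the hull
  let N : Submodule R (I.H m n') := Submodule.map (LinearMap.toSpanSingleton R _ z₀) m.toIdeal
  have hN : Homog (I.Hgr m n') N := by
    rintro _ ⟨r, hr, rfl⟩ g
    rw [LinearMap.toSpanSingleton_apply, pr_smul_left 𝒜 (I.Hgr m n') hz₀]
    exact ⟨_, m.isHomogeneous _ hr, rfl⟩
  letI decN := quotDec (I.Hgr m n') N hN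
  letI decB := shiftDec (quotPiece (I.Hgr m n') N) d₀
  let ι₀ : (R ⧸ m.toIdeal) →ₗ[R] (I.H m n' ⧸ N) :=
    Submodule.liftQ m.toIdeal (N.mkQ ∘ₗ LinearMap.toSpanSingleton R _ z₀) fun r hr =>
      (Submodule.Quotient.mk_eq_zero N).2 ⟨r, hr, rfl⟩
  have hι₀ : Function.Injective ι₀ := by
    refine (injective_iff_map_eq_zero _).2 fun w hw => ?_
    obtain ⟨r, rfl⟩ := Ideal.Quotient.mk_surjective w
    obtain ⟨s, hs, hsr⟩ : r • z₀ ∈ N := (Submodule.Quotient.mk_eq_zero N).1 hw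
    rw [LinearMap.toSpanSingleton_apply] at hsr
    have h1 : pr 𝒜 0 (r - s) • z₀ = 0 := by
      have h := pr_smul_left 𝒜 (I.Hgr m n') hz₀ d₀ (r - s)
      rw [sub_smul, hsr, sub_self, map_zero, sub_self] at h
      exact h.symm
    have hc : pr 𝒜 0 (r - s) = 0 := by
      by_contra hc
      obtain ⟨d, -, hd⟩ := exists_inv_zero h0 (pr_mem 𝒜 0 _) hc
      exact hz₀ne (by rw [← one_smul R z₀, ← hd, mul_smul, h1, smul_zero])
    rw [map_sub, pr_zero_of_mem hpos hmsp hs, sub_zero] at hc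
    refine Ideal.Quotient.eq_zero_iff_mem.2 ?_
    have h2 := sub_pr_zero_mem hpos hm r
    rwa [hc, sub_zero] at h2
  obtain ⟨h₁, hh₁, hh₁e⟩ := he.starInj (GrLC.GMod.of 𝒜 (R ⧸ m.toIdeal) (GrLC.quotGr 𝒜 m))
    (GrLC.GMod.of 𝒜 (I.H m n' ⧸ N) (shiftPiece (quotPiece (I.Hgr m n') N) d₀)) ι₀
    (fun g w hw => by
      obtain ⟨r, hr, rfl⟩ := hw
      exact ⟨r • z₀, smul_mem 𝒜 (I.Hgr m n') hr hz₀, rfl⟩) hι₀ e he.1.grHom
  letI decY := shiftDec Y.gr (-d₀)
  let f : I.H m n' →ₗ[R] Y.carrier := h₁ ∘ₗ N.mkQ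
  have hf : GrLC.IsGrHom (I.Hgr m n') (shiftPiece Y.gr (-d₀)) f := fun g v hv => by
    show h₁ (N.mkQ v) ∈ Y.gr (g + -d₀)
    refine hh₁ (g + -d₀) _ ?_
    show N.mkQ v ∈ quotPiece (I.Hgr m n') N (g + -d₀ + d₀)
    rw [neg_add_cancel_right]
    exact ⟨v, hv, rfl⟩
  have hfz : f z₀ = e 1 := (congrArg h₁ (show N.mkQ z₀ = ι₀ (Ideal.Quotient.mk m.toIdeal 1) from
    congrArg N.mkQ (one_smul R z₀).symm)).trans (LinearMap.congr_fun hh₁e _)
  have hfinj : ∀ (j : ℤ) (v : I.H m n'), v ∈ I.Hgr m n' (j * D.q) → f v = 0 → v = 0 := by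
    intro j v hv hfv
    by_contra hv0
    obtain ⟨r, hr⟩ := hreach j v hv hv0
    exact e_one_ne hm he (by rw [← hfz, ← hr, map_smul, hfv, smul_zero])
  -- surjectivity in the degrees divisible by `q`
  let V := veroObj D Y
  let f' : F.H m' n' →ₗ[R'] V.carrier :=
    { toFun := fun w => vmk D Y (f (Ψ w))
      map_add' := fun v w => vval_injective D Y (by
        show vproj D Y.gr (f (Ψ (v + w))) = vproj D Y.gr (f (Ψ v)) + vproj D Y.gr (f (Ψ w))
        rw [map_add, map_add, map_add])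
      map_smul' := fun a w => vval_injective D Y (by
        show vproj D Y.gr (f (Ψ (a • w))) = D.φ a • vproj D Y.gr (f (Ψ w))
        rw [map_smulₛₗ, map_smul, vproj_smul]) }
  have hf'deg : ∀ (j : ℤ), ∀ w ∈ F.Hgr m' n' j,
      f (Ψ w) ∈ Y.gr ((j + δ) * D.q) ∧ vval D Y (f' w) = f (Ψ w) := by
    intro j w hw
    have h : f (Ψ w) ∈ Y.gr ((j + δ) * D.q) := by
      rw [show (j + δ) * (D.q : ℤ) = j * D.q + -d₀ by rw [hd₀def]; ring]
      exact hf _ _ ((hΨ j).1 w hw).1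
    exact ⟨h, (vproj_of_mem D Y.gr h).trans (if_pos (Dvd.intro_left _ rfl))⟩
  letI decA := shiftDec (F.Hgr m' n') (-δ)
  have hf'gr : GrLC.IsGrHom (shiftPiece (F.Hgr m' n') (-δ)) V.gr f' := fun g w hw => by
    show vval D Y (f' w) ∈ Y.gr (g * D.q)
    rw [(hf'deg _ w hw).2]
    have := (hf'deg _ w hw).1
    rwa [neg_add_cancel_right] at this
  have hf'inj : Function.Injective f' := by
    refine LinearMap.ker_eq_bot.1 (GrLCHull.eq_bot_of_homog (shiftPiece (F.Hgr m' n') (-δ))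
      (homog_ker (shiftPiece (F.Hgr m' n') (-δ)) V.gr hf'gr) fun g w hw hwk => ?_)
    refine ((hΨ _).1 w hw).2 (hfinj _ _ ((hΨ _).1 w hw).1 ?_)
    rw [← (hf'deg _ w hw).2, LinearMap.mem_ker.1 hwk, map_zero]
  obtain ⟨p, hp, hpf⟩ := he'.starInj (GrLC.GMod.of 𝒜' (F.H m' n') (shiftPiece (F.Hgr m' n') (-δ))) V f'
    hf'gr hf'inj φ'.toLinearMap (fun g w hw => by
      have := hφ' _ w hw
      rwa [neg_add_cancel_right] at this)
  have hsurjq : ∀ (i : ℤ) (v : Y.carrier), v ∈ Y.gr (i * D.q) → v ∈ LinearMap.range f := by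
    intro i v hv
    let v' : V.carrier := ⟨v, mem_vset_of_mem D _ hv⟩
    have hv' : v' ∈ V.gr i := hv
    let w := φ'.symm (p v')
    have hw : w ∈ F.Hgr m' n' (i + -δ) := hφsymm _ _ (by rw [neg_add_cancel_right]; exact hp i v' hv')
    have hd : vval D Y (v' - f' w) = 0 := by
      by_contra hne
      have hdeg : v' - f' w ∈ V.gr i := sub_mem hv' (hf'gr i w hw)
      obtain ⟨r, hr, hrd⟩ := exists_smul_eq_one hpos h0 hm he (show vval D Y (v' - f' w) ∈ Y.gr (i * D.q) from hdeg) hne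
      obtain ⟨a, -, rfl⟩ := D.exists_preimage (j := -i) (r := r) (by rw [neg_mul]; exact hr)
      have h1 : a • (v' - f' w) = f' z₀' := vval_injective D Y (by
        rw [vval_smul, hrd, (hf'deg _ z₀' hz₀').2]
        exact hfz.symm)
      have h2 := congrArg p h1
      rw [map_smul, map_sub, show p (f' w) = φ' w from LinearMap.congr_fun hpf w, φ'.apply_symm_apply, sub_self,
        smul_zero, show p (f' z₀') = φ' z₀' from LinearMap.congr_fun hpf z₀', φ'.apply_symm_apply] at h2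
      exact e_one_ne hm' he' h2.symm
    refine ⟨Ψ w, ?_⟩
    rw [map_sub, sub_eq_zero] at hd
    rw [← (hf'deg _ w hw).2, ← hd]
    rfl
  -- cokernel and kernel are killed by `m^q`
  have hQ : ∀ r ∈ m.toIdeal ^ D.q, ∀ v : Y.carrier, r • v ∈ LinearMap.range f := by
    intro r hr v
    induction v using DirectSum.Decomposition.inductionOn Y.gr with
    | zero => rw [smul_zero]; exact zero_mem _
    | @homogeneous g w =>
      exact smul_mem_of_dvd hm1 D.hq Y.gr _ w.2 (fun i j hij r' hr' =>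
        hsurjq j _ (hij ▸ smul_mem 𝒜 Y.gr hr' w.2)) hr
    | add a b ha hb => rw [smul_add]; exact add_mem ha hb
  have hK : ∀ r ∈ m.toIdeal ^ D.q, ∀ v : I.H m n', f v = 0 → r • v = 0 := by
    intro r hr v hv
    rw [← sum_pr (I.Hgr m n') v, Finset.smul_sum]
    refine Finset.sum_eq_zero fun g _ => ?_
    have hg : f (pr (I.Hgr m n') g v) = 0 := by
      rw [← pr_map (I.Hgr m n') (shiftPiece Y.gr (-d₀)) hf, hv, map_zero]
    refine (Submodule.mem_bot R).1 (smul_mem_of_dvd hm1 D.hq (I.Hgr m n') ⊥ (pr_mem _ g v) (fun i j hij r' hr' =>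
      (Submodule.mem_bot R).2 (hfinj j _ (hij ▸ smul_mem 𝒜 (I.Hgr m n') hr' (pr_mem _ g v)) ?_)) hr)
    rw [map_smul, hg, smul_zero]
  have hbaer : Module.Baer R Y.carrier := GrLCBassLib.baer 𝒜 m Y.gr he
  have hsurj : Function.Surjective f := fun v => by
    obtain ⟨w, rfl⟩ := exists_pow_smul_eq (exists_smul_eq hbaer hxreg) D.q v
    exact hQ _ hxq w
  have hstep : ∀ v : I.H m n', f v = 0 → ∃ v₁, f v₁ = 0 ∧ x • v₁ = v := by
    intro v hv
    obtain ⟨w, rfl⟩ := hxH v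
    have hxu : x • f w = 0 := by rw [← map_smul]; exact hv
    have hpow : ∀ k : ℕ, ∃ u : Y.carrier, x • u = 0 ∧ y ^ k • u = f w := by
      intro k
      induction k with
      | zero => exact ⟨f w, hxu, by rw [pow_zero, one_smul]⟩
      | succ k ih =>
        obtain ⟨u, hu, huw⟩ := ih
        obtain ⟨u', hu', hu''⟩ := exists_smul_eq_pair hbaer hxreg hy hu
        exact ⟨u', hu', by rw [pow_succ, mul_smul, hu'', huw]⟩
    obtain ⟨u, hu, huw⟩ := hpow D.q
    obtain ⟨w', rfl⟩ := hsurj u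
    refine ⟨w - y ^ D.q • w', by rw [map_sub, map_smul, huw, sub_self], ?_⟩
    rw [smul_sub, smul_comm, hK _ hyq _ (by rw [map_smul]; exact hu), sub_zero]
  have hinj : Function.Injective f := (injective_iff_map_eq_zero f).2 fun v hv => by
    have hk : ∀ k : ℕ, ∃ v₁, f v₁ = 0 ∧ x ^ k • v₁ = v := by
      intro k
      induction k with
      | zero => exact ⟨v, hv, by rw [pow_zero, one_smul]⟩
      | succ k ih =>
        obtain ⟨v₁, hv₁, hv₁'⟩ := ih
        obtain ⟨v₂, hv₂, hv₂'⟩ := hstep v₁ hv₁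
        exact ⟨v₂, hv₂, by rw [pow_succ, mul_smul, hv₂', hv₁']⟩
    obtain ⟨v₁, hv₁, rfl⟩ := hk D.q
    exact hK _ hxq v₁ hv₁
  refine ⟨isGorensteinRing_of_starLocal hm (GrCore.isGorensteinLocal_of_starInj_top hm I hnh
    (shiftObj 𝒜 Y.gr (-d₀)) (LinearEquiv.ofBijective f ⟨hinj, hsurj⟩) (isStarInj_shift he.starInj (-d₀))
    (fun g v hv => hf g v hv)), d₀, ?_, Dvd.intro_left _ rfl⟩
  refine le_antisymm ((endDeg_le_iff I m n' d₀).2 fun g hg => (hgr_eq_bot_iff I m n' g).1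
    ((AddSubgroup.eq_bot_iff_forall _).2 fun v hv => hinj ?_)) ?_
  · rw [GrCanon.hull_eq_zero_of_pos hpos hm he (d := g + -d₀) (by omega) (hf g v hv), map_zero]
  · rw [GrLC.endDeg]
    exact le_iSup₂_of_le d₀ (fun h => hz₀ne (by rw [h] at hz₀; exact (AddSubgroup.mem_bot).1 hz₀)) le_rfl

end Groth.Agent.GrGor
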