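import Groth.Agent.GrGor.Converse
import Groth.Agent.GrGor.ExtReg
import Groth.Agent.GrLCLib.Hilbert
import Groth.Prelude.Def_GrLC2

/-!
The type of a Veronese subring of a standard graded Gorenstein ring.
-/

set_option autoImplicit false
set_option linter.unusedSectionVars false
set_option linter.style.haveILetI false
set_option backward.isDefEq.respectTransparency false
set_option backward.isDefEq.respectTransparency.types false
universe u

open scoped Classical
open DirectSum IsLocalRing Groth.Agent.GrLCLib Groth.Agent.GrLCVeronese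

noncomputable section

namespace Groth.Agent.GrGor

variable {R : Type u} [CommRing R] {𝒜 : ℤ → AddSubgroup R} [GradedRing 𝒜]

lemma mem_span_one_pow (hpos : ∀ k : ℤ, k < 0 → 𝒜 k = ⊥)
    (hstd : Ideal.span (⋃ k ∈ Set.Ioi (0 : ℤ), (𝒜 k : Set R)) = Ideal.span ((𝒜 1 : AddSubgroup R) : Set R)) :
    ∀ (j : ℕ) {e : ℤ} {x : R}, (j : ℤ) ≤ e → x ∈ 𝒜 e → x ∈ Ideal.span ((𝒜 1 : AddSubgroup R) : Set R) ^ j := by
  intro j
  induction j with
  | zero => intro e x _ _; rw [pow_zero, Ideal.one_eq_top]; exact Submodule.mem_top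
  | succ j ih =>
    intro e x hje hx
    have h1 : x ∈ Ideal.span ((𝒜 1 : AddSubgroup R) : Set R) :=
      hstd ▸ Ideal.subset_span (Set.mem_iUnion₂.2 ⟨e, Set.mem_Ioi.2 (by omega), hx⟩)
    have key : ∀ y ∈ Ideal.span ((𝒜 1 : AddSubgroup R) : Set R), ∀ r : R,
        pr 𝒜 e (r * y) ∈ Ideal.span ((𝒜 1 : AddSubgroup R) : Set R) ^ (j + 1) := by
      intro y hy
      induction hy using Submodule.span_induction with
      | mem b hb =>
        intro r
        rw [mul_comm, ← smul_eq_mul b r, pr_smul 𝒜 𝒜 hb, smul_eq_mul, pow_succ, mul_comm b]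
        exact Ideal.mul_mem_mul (ih (by omega) (pr_mem 𝒜 (e - 1) r)) (Ideal.subset_span hb)
      | zero => exact fun r => by rw [mul_zero, map_zero]; exact zero_mem _
      | add a b _ _ ha hb => exact fun r => by rw [mul_add, map_add]; exact add_mem (ha r) (hb r)
      | smul c u _ hu => exact fun r => by rw [smul_eq_mul, ← mul_assoc]; exact hu _
    have h2 := key x h1 1
    rwa [one_mul, pr_of_mem 𝒜 hx] at h2

variable [IsNoetherianRing R] {R' : Type u} [CommRing R'] {𝒜' : ℤ → AddSubgroup R'} [GradedRing 𝒜'] (D : Datum 𝒜 𝒜')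
  (m : HomogeneousIdeal 𝒜) (m' : HomogeneousIdeal 𝒜') (n : ℕ) (a : ℤ)
  (hpos : ∀ k : ℤ, k < 0 → 𝒜 k = ⊥) (hm : GrLC.IsStarLocal 𝒜 m)
  (hmsp : m.toIdeal = Ideal.span (⋃ k ∈ Set.Ioi (0 : ℤ), (𝒜 k : Set R)))
  (hm'sp : m'.toIdeal = Ideal.span (⋃ k ∈ Set.Ioi (0 : ℤ), (𝒜' k : Set R')))
  (hn : ringKrullDim R = n) (hG : LocCoh.IsGorensteinRing R)
  (I : GrLC.StarInjRes 𝒜 𝒜) (ha : GrLC.endDeg (I.Hgr m n) = ((a : WithTop ℤ) : WithBot (WithTop ℤ)))

include hpos hm hmsp hm'sp hn in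
theorem stage_socle (h0 : IsField (GrLC.deg0 𝒜))
    (hstd : Ideal.span (⋃ k ∈ Set.Ioi (0 : ℤ), (𝒜 k : Set R)) = Ideal.span ((𝒜 1 : AddSubgroup R) : Set R))
    (st : Stage D m m' n a n) (ρ : ℤ) (hρ0 : 0 ≤ ρ) (hρq : ρ < D.q) (hρa : (D.q : ℤ) ∣ a - ρ) :
    ∃ (r : ℕ) (y' : Fin r → R'), r = Module.finrank (GrLC.deg0 𝒜) (GrLC.comp 𝒜 𝒜 ρ) ∧
      (∀ i, ∀ x ∈ m'.toIdeal, x * y' i ∈ st.K) ∧
      (∀ c : Fin r → R', (∀ i, c i ∈ 𝒜' 0) → ∑ i, c i * y' i ∈ st.K → ∀ i, c i = 0) ∧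
      (∀ z : R', (∀ x ∈ m'.toIdeal, x * z ∈ st.K) → ∃ c : Fin r → R', z - ∑ i, c i * y' i ∈ st.K) := by
  haveI := isNoetherianRing D
  obtain ⟨u, N, hu, huK, hhigh, hupos, hsoc, hN, hKtop⟩ := stage_core D m m' n a hpos hm hmsp hm'sp hn st
  set K := st.K.map D.φ with hKdef
  have hK : K.IsHomogeneous 𝒜 := isHomogeneous_map D st.hK
  set s : ℤ := a + st.S with hs
  have hK' : st.K = K.comap D.φ := (comap_map_eq D st.K).symm
  have hsρ : (D.q : ℤ) ∣ s - ρ := by
    rw [show s - ρ = (a - ρ) + st.S by rw [hs]; ring]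
    exact dvd_add hρa st.dvd
  have hpos' := hpos_veronese D hpos
  have hcomp0 : ∀ {z : R}, z ∈ m.toIdeal → pr 𝒜 0 z = 0 := fun {z} hz => by
    rw [hmsp] at hz; exact mem_span_pos_pr_zero hpos hz
  letI := h0.toField
  -- the coefficient of `u`
  have huniq : ∀ c ∈ 𝒜 0, c * u ∈ K → c = 0 := by
    intro c hc hcu
    by_contra hc0
    obtain ⟨⟨d, hd⟩, hd'⟩ := h0.mul_inv_cancel (a := ⟨c, hc⟩) (fun h => hc0 (congrArg Subtype.val h))
    refine huK ?_
    have : c * d = 1 := congrArg Subtype.val hd'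
    rw [show u = d * (c * u) by rw [← mul_assoc, mul_comm d, this, one_mul]]
    exact Ideal.mul_mem_left _ _ hcu
  have hlam : ∀ (x : GrLC.comp 𝒜 𝒜 ρ) (y : GrLC.comp 𝒜 𝒜 (s - ρ)),
      ∃ c : GrLC.deg0 𝒜, (x : R) * y - (c : R) * u ∈ K := by
    intro x y
    have hxy : (x : R) * y ∈ 𝒜 s := by
      have := SetLike.mul_mem_graded (show (x : R) ∈ 𝒜 ρ from x.2) (show (y : R) ∈ 𝒜 (s - ρ) from y.2)
      rwa [add_sub_cancel] at this
    obtain ⟨c, hc⟩ := hsoc ((x : R) * y) fun r hr => by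
      rw [← sum_pr 𝒜 r, Finset.sum_mul]
      refine Ideal.sum_mem _ fun j _ => ?_
      rcases le_or_gt j 0 with hj | hj
      · rcases eq_or_lt_of_le hj with rfl | hj
        · rw [show pr 𝒜 0 r = 0 from hcomp0 hr, zero_mul]; exact zero_mem _
        · rw [show pr 𝒜 j r = 0 from (hpos j hj).le (pr_mem 𝒜 j r), zero_mul]; exact zero_mem _
      · exact hhigh (j + s) (by omega) _ (SetLike.mul_mem_graded (pr_mem 𝒜 j r) hxy)
    refine ⟨⟨pr 𝒜 0 c, pr_mem 𝒜 0 c⟩, ?_⟩
    have h2 := hK s hc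
    rw [show (DirectSum.decompose 𝒜 ((x : R) * y - c * u) s : R) = pr 𝒜 s ((x : R) * y - c * u) from rfl,
      map_sub, pr_of_mem 𝒜 hxy, mul_comm c u, ← smul_eq_mul u c, pr_smul 𝒜 𝒜 hu, smul_eq_mul, sub_self, mul_comm u] at h2
    exact h2
  choose lam hlam using hlam
  have hlameq : ∀ (x : GrLC.comp 𝒜 𝒜 ρ) (y : GrLC.comp 𝒜 𝒜 (s - ρ)) (c : GrLC.deg0 𝒜), (x : R) * y - (c : R) * u ∈ K → lam x y = c := fun x y c h =>
    Subtype.ext (sub_eq_zero.1 (huniq _ (sub_mem (lam x y).2 c.2) (by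
      rw [show ((lam x y : R) - c) * u = ((x : R) * y - (c : R) * u) - ((x : R) * y - (lam x y : R) * u) by ring]
      exact sub_mem h (hlam x y))))
  have hpush : ∀ {i : ℤ} {w : R}, w ∈ 𝒜 i → w ∉ K → ∃ r ∈ 𝒜 (s - i), r * w ∉ K := fun hw hwK =>
    exists_push m hpos hm hK hmsp hu hupos hhigh hsoc hw hwK
  obtain ⟨_, gx, hgx, hgen⟩ := exists_gens_one (𝒜 := 𝒜) hstd
  haveI : Module.Finite (GrLC.deg0 𝒜) (GrLC.comp 𝒜 𝒜 ρ) := finite_comp hgx hpos hgen ρ
  let b := Module.finBasis (GrLC.deg0 𝒜) (GrLC.comp 𝒜 𝒜 ρ)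
  let L : GrLC.comp 𝒜 𝒜 (s - ρ) →ₗ[GrLC.deg0 𝒜] (Fin (Module.finrank (GrLC.deg0 𝒜) (GrLC.comp 𝒜 𝒜 ρ)) → GrLC.deg0 𝒜) :=
    { toFun := fun y i => lam (b i) y
      map_add' := fun y z => funext fun i => hlameq (b i) (y + z) (lam (b i) y + lam (b i) z) (by
        rw [show (b i : R) * ((y + z : GrLC.comp 𝒜 𝒜 (s - ρ)) : R) - ((lam (b i) y + lam (b i) z : GrLC.deg0 𝒜) : R) * u
          = ((b i : R) * y - (lam (b i) y : R) * u) + ((b i : R) * z - (lam (b i) z : R) * u) by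
            rw [Submodule.coe_add, Subring.coe_add]; ring]
        exact add_mem (hlam _ _) (hlam _ _))
      map_smul' := fun c y => funext fun i => hlameq (b i) (c • y) (c * lam (b i) y) (by
        show (b i : R) * ((c : R) * y) - (c : R) * (lam (b i) y : R) * u ∈ K
        rw [show (b i : R) * ((c : R) * y) - (c : R) * (lam (b i) y : R) * u
          = (c : R) * ((b i : R) * y - (lam (b i) y : R) * u) by ring]
        exact Ideal.mul_mem_left _ _ (hlam _ _)) }
  have hlow : ∀ x ∈ 𝒜 ρ, x ∈ K → x = 0 := fun x hx hxK => eq_zero_of_low D m' hpos hm'sp st.le_irr hρq hx hxK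
  -- `x * y` modulo `K` in coordinates
  have hexp : ∀ (x : GrLC.comp 𝒜 𝒜 ρ) (y : GrLC.comp 𝒜 𝒜 (s - ρ)),
      (x : R) * y - (∑ i, (b.repr x i : R) * (L y i : R)) * u ∈ K := by
    intro x y
    have hx : (x : R) = ∑ i, (b.repr x i : R) * (b i : R) := by
      conv_lhs => rw [← b.sum_repr x]
      rw [AddSubmonoidClass.coe_finsetSum]
      rfl
    rw [hx, Finset.sum_mul, Finset.sum_mul, ← Finset.sum_sub_distrib]
    refine Ideal.sum_mem _ fun i _ => ?_
    rw [mul_assoc, mul_assoc, ← mul_sub]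
    exact Ideal.mul_mem_left _ _ (hlam _ _)
  have hLsurj : Function.Surjective L := by
    rw [← LinearMap.range_eq_top]
    by_contra hne
    obtain ⟨f, hf0, hf⟩ := Submodule.exists_le_ker_of_lt_top _ (lt_top_iff_ne_top.2 hne)
    refine hf0 (LinearMap.ext fun v => ?_)
    let x : GrLC.comp 𝒜 𝒜 ρ := b.equivFun.symm fun i => f (fun j => if i = j then 1 else 0)
    have hrepr : ∀ i, b.repr x i = f (fun j => if i = j then 1 else 0) := fun i =>
      congrFun (b.equivFun.apply_symm_apply (fun i => f (fun j => if i = j then 1 else 0))) i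
    have hkill : ∀ y : GrLC.comp 𝒜 𝒜 (s - ρ), (x : R) * y ∈ K := fun y => by
      have h1 : (∑ i, b.repr x i * L y i) = 0 := by
        refine Eq.trans ?_ (LinearMap.mem_ker.1 (hf ⟨y, rfl⟩))
        rw [LinearMap.pi_apply_eq_sum_univ f (L y)]
        exact Finset.sum_congr rfl fun i _ => by rw [hrepr, smul_eq_mul, mul_comm]
      have h2 := hexp x y
      rwa [show (∑ i, (b.repr x i : R) * (L y i : R)) = ((∑ i, b.repr x i * L y i : GrLC.deg0 𝒜) : R) by
        rw [AddSubmonoidClass.coe_finsetSum]; rfl, h1, Subring.coe_zero, zero_mul, sub_zero] at h2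
    have hx0 : x = 0 := by
      by_contra hx0
      obtain ⟨r, hr, hrx⟩ := hpush (show (x : R) ∈ 𝒜 ρ from x.2)
        fun h => hx0 (Subtype.ext (hlow _ x.2 h))
      exact hrx (by rw [mul_comm]; exact hkill ⟨r, hr⟩)
    rw [LinearMap.pi_apply_eq_sum_univ f v, LinearMap.zero_apply]
    refine Finset.sum_eq_zero fun i _ => ?_
    rw [← hrepr, hx0, map_zero, Finsupp.zero_apply, smul_zero]
  have hy : ∀ i, ∃ y : GrLC.comp 𝒜 𝒜 (s - ρ), L y = Pi.single i 1 := fun i => hLsurj _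
  choose y hy using hy
  have hy' : ∀ i, ∃ y' ∈ 𝒜' ((s - ρ) / D.q), D.φ y' = (y i : R) := fun i =>
    D.exists_preimage (by rw [Int.ediv_mul_cancel hsρ]; exact (y i).2)
  choose y' hy'mem hy' using hy'
  refine ⟨_, y', rfl, fun i x hx => ?_, fun c hc hsum => ?_, fun z hz => ?_⟩
  · rw [← sum_pr 𝒜' x, Finset.sum_mul]
    refine Ideal.sum_mem _ fun j _ => ?_
    rw [hK', Ideal.mem_comap, map_mul, hy']
    rcases le_or_gt j 0 with hj | hj
    · rcases eq_or_lt_of_le hj with rfl | hj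
      · have h0m : pr 𝒜' 0 x ∈ m'.toIdeal := m'.isHomogeneous 0 hx
        rw [hm'sp] at h0m
        rw [show pr 𝒜' 0 x = 0 from (pr_of_mem 𝒜' (pr_mem 𝒜' 0 x)).symm.trans (mem_span_pos_pr_zero hpos' h0m),
          map_zero, zero_mul]
        exact zero_mem _
      · rw [show pr 𝒜' j x = 0 from (hpos' j hj).le (pr_mem 𝒜' j x), map_zero, zero_mul]; exact zero_mem _
    · refine hhigh (j * D.q + (s - ρ)) ?_ _ (SetLike.mul_mem_graded (D.map_mem (pr_mem 𝒜' j x)) (y i).2)
      have : 1 * (D.q : ℤ) ≤ j * D.q := mul_le_mul_of_nonneg_right hj (Int.natCast_nonneg _)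
      omega
  · have hc' : ∀ i, D.φ (c i) ∈ 𝒜 0 := fun i => by simpa using D.map_mem (hc i)
    intro j
    have h1 : ∀ i, (b j : R) * (y i : R) - (if i = j then u else 0) ∈ K := fun i => by
      have h := hlam (b j) (y i)
      have h' : lam (b j) (y i) = if i = j then 1 else 0 := by
        have := congrFun (hy i) j
        rw [Pi.single_apply] at this
        simp only [eq_comm (a := i)]
        exact this
      rw [h'] at h
      split_ifs at h ⊢ with hij
      · rwa [Subring.coe_one, one_mul] at h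
      · rwa [Subring.coe_zero, zero_mul] at h
    rw [hK', Ideal.mem_comap, map_sum] at hsum
    have h2 : D.φ (c j) * u ∈ K := by
      have h3 : ∑ i, D.φ (c i) * ((b j : R) * (y i : R) - (if i = j then u else 0)) ∈ K :=
        Ideal.sum_mem _ fun i _ => Ideal.mul_mem_left _ _ (h1 i)
      have h4 := sub_mem (Ideal.mul_mem_left _ (b j : R) hsum) h3
      refine (congrArg (· ∈ K) ?_).mp h4
      simp only [mul_sub, mul_ite, mul_zero, Finset.sum_sub_distrib, Finset.sum_ite_eq', Finset.mem_univ, if_true,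
        Finset.mul_sum, map_mul, hy']
      rw [sub_sub_eq_add_sub, add_comm]
      simp only [mul_left_comm (b j : R)]
      rw [add_sub_cancel_right]
    exact D.hφ ((huniq _ (hc' j) h2).trans (map_zero D.φ).symm)
  · have hoff : ∀ j : ℤ, j ≠ (s - ρ) / D.q → pr 𝒜' j z ∈ st.K := by
      intro j hj
      by_contra hcon
      have hw : D.φ (pr 𝒜' j z) ∈ 𝒜 (j * D.q) := D.map_mem (pr_mem 𝒜' j z)
      obtain ⟨r, hr, hrw⟩ := hpush hw fun h => hcon (by rw [hK']; exact h)
      rcases lt_or_gt_of_ne hj with hlt | hgt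
      · -- degree at least `q`
        have hle : (D.q : ℤ) ≤ s - j * D.q := by
          have : (j + 1) * (D.q : ℤ) ≤ (s - ρ) / D.q * D.q :=
            mul_le_mul_of_nonneg_right hlt (Int.natCast_nonneg _)
          rw [Int.ediv_mul_cancel hsρ, add_mul, one_mul] at this
          omega
        refine hrw ?_
        have h1 := span_one_pow_le D.q (mem_span_one_pow hpos hstd D.q hle hr)
        refine (Ideal.span_le.2 ?_ : _ ≤ K.colon {D.φ (pr 𝒜' j z)}) h1 |> Submodule.mem_colon_singleton.1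
        intro g hg
        obtain ⟨g', hg', hgg⟩ := D.exists_preimage (j := 1) (r := g) (by rwa [one_mul])
        have hg'm : g' ∈ m'.toIdeal := by
          rw [hm'sp]; exact Ideal.subset_span (Set.mem_iUnion₂.2 ⟨1, Set.mem_Ioi.2 one_pos, hg'⟩)
        refine Submodule.mem_colon_singleton.2 ?_
        rw [smul_eq_mul, ← hgg, ← map_mul]
        refine Ideal.mem_map_of_mem _ ?_
        have h2 := st.hK (1 + j) (hz g' hg'm)
        have h3 := pr_smul 𝒜' 𝒜' hg' (1 + j) z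
        rw [add_sub_cancel_left, smul_eq_mul, smul_eq_mul] at h3
        exact h3 ▸ h2
      · refine hrw ?_
        have : ((s - ρ) / D.q + 1) * (D.q : ℤ) ≤ j * D.q :=
          mul_le_mul_of_nonneg_right hgt (Int.natCast_nonneg _)
        rw [add_mul, Int.ediv_mul_cancel hsρ, one_mul] at this
        rw [show r = 0 from (hpos _ (by omega)).le hr, zero_mul]
        exact zero_mem _
    let zt : GrLC.comp 𝒜 𝒜 (s - ρ) := ⟨D.φ (pr 𝒜' ((s - ρ) / D.q) z), by
      show _ ∈ 𝒜 (s - ρ)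
      have := D.map_mem (pr_mem 𝒜' ((s - ρ) / D.q) z)
      rwa [Int.ediv_mul_cancel hsρ] at this⟩
    have hc : ∀ i, ∃ c ∈ 𝒜' 0, D.φ c = (L zt i : R) := fun i =>
      D.exists_preimage (by rw [zero_mul]; exact (L zt i).2)
    choose c _ hc using hc
    refine ⟨c, ?_⟩
    have h3 : z - pr 𝒜' ((s - ρ) / D.q) z ∈ st.K := by
      refine mem_of_pr_mem 𝒜' fun j => ?_
      rcases eq_or_ne j ((s - ρ) / D.q) with rfl | hne
      · rw [map_sub, pr_of_mem 𝒜' (pr_mem 𝒜' _ z), sub_self]; exact zero_mem _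
      · rw [map_sub, pr_of_mem_ne 𝒜' (pr_mem 𝒜' _ z) hne.symm, sub_zero]; exact hoff j hne
    have h4 : pr 𝒜' ((s - ρ) / D.q) z - ∑ i, c i * y' i ∈ st.K := by
      rw [hK', Ideal.mem_comap, map_sub, map_sum]
      let v : GrLC.comp 𝒜 𝒜 (s - ρ) := zt - ∑ i, L zt i • y i
      have hv : L v = 0 := by
        rw [map_sub, map_sum, sub_eq_zero]
        conv_lhs => rw [pi_eq_sum_univ' (L zt)]
        refine Finset.sum_congr rfl fun i _ => ?_
        rw [map_smul, hy]
      have hvK : (v : R) ∈ K := by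
        by_contra hvK
        obtain ⟨x, hx, hxv⟩ := hpush (show (v : R) ∈ 𝒜 (s - ρ) from v.2) hvK
        rw [sub_sub_cancel] at hx
        have := hexp ⟨x, hx⟩ v
        simp [hv] at this
        exact hxv this
      convert hvK using 1
      simp only [v, Submodule.coe_sub, AddSubmonoidClass.coe_finsetSum, map_mul, hc, hy']
      rfl
    have := add_mem h3 h4
    rwa [sub_add_sub_cancel] at this

end Groth.Agent.GrGor
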