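import Groth.Agent.GrGor.Type

/-!
The type of the Veronese subring, over the local ring at the irrelevant ideal.
-/

set_option autoImplicit false
set_option linter.unusedSectionVars false
set_option linter.style.haveILetI false
set_option backward.isDefEq.respectTransparency false
set_option backward.isDefEq.respectTransparency.types false
universe u

open scoped Classical
open IsLocalRing CategoryTheory Abelian

noncomputable section

namespace Groth.Agent.GrGor

/-- The Bass number in the degree of a regular sequence in the maximal ideal, from a basis of the socle. -/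
theorem bassNum_of_socle {B : Type u} [CommRing B] (P : Ideal B) [P.IsMaximal] (rs : List B)
    (hrs : RingTheory.Sequence.IsWeaklyRegular B rs) (K : Ideal B) (hK : Ideal.ofList rs = K) (hKP : K ≤ P)
    (N : ℕ) (hN : P ^ N ≤ K) (B₀ : Set B) (hB₀ : ∀ z : B, ∃ c ∈ B₀, z - c ∈ P)
    {r : ℕ} (y : Fin r → B) (hy : ∀ i, ∀ x ∈ P, x * y i ∈ K)
    (hind : ∀ c : Fin r → B, (∀ i, c i ∈ B₀) → ∑ i, c i * y i ∈ K → ∀ i, c i ∈ P)
    (hspan : ∀ z : B, (∀ x ∈ P, x * z ∈ K) → ∃ c : Fin r → B, z - ∑ i, c i * y i ∈ K) :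
    GrLC.bassNum P B rs.length = (r : ℕ∞) := by
  let A := Localization.AtPrime P
  let k := ResidueField A
  let ι : B →+* A := algebraMap B A
  let rs' : List A := rs.map ι
  haveI : Module.Flat B A := IsLocalization.flat A P.primeCompl
  have hw : RingTheory.Sequence.IsWeaklyRegular A rs' := hrs.of_flat
  have hKA : Ideal.ofList rs' = K.map ι := by rw [← hK, Ideal.map_ofList]
  have hkill : ∀ x ∈ rs', ∀ w : k, x • w = 0 := by
    intro x hx w
    obtain ⟨x, hx', rfl⟩ := List.mem_map.1 hx
    have hxm : ι x ∈ maximalIdeal A :=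
      (IsLocalization.AtPrime.to_map_mem_maximal_iff A P x).2 (hKP (hK ▸ Ideal.subset_span hx'))
    rw [Algebra.smul_def]
    show residue A (ι x) * w = 0
    rw [(residue_eq_zero_iff (ι x)).2 hxm, zero_mul]
  obtain ⟨-, ⟨e⟩⟩ := ext_of_regular rs' A hw hkill
  let M := LocalizedModule P.primeCompl B
  let eM : A ≃ₗ[A] M := (IsLocalizedModule.iso P.primeCompl (Algebra.linearMap B A)).symm.extendScalarsOfIsLocalization
    P.primeCompl A
  show Module.length A (Ext.{u} (ModuleCat.of A k) (ModuleCat.of A M) rs.length) = _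
  rw [show rs.length = rs'.length from (List.length_map _).symm]
  let eExt : Ext.{u} (ModuleCat.of A k) (ModuleCat.of A A) rs'.length ≃ₗ[A]
      Ext.{u} (ModuleCat.of A k) (ModuleCat.of A M) rs'.length := by
    refine LinearEquiv.ofLinearMap
      (Ext.postcompOfLinear (Ext.mk₀ (ModuleCat.ofHom eM.toLinearMap)) A _ (a := rs'.length) (add_zero _))
      (Ext.postcompOfLinear (Ext.mk₀ (ModuleCat.ofHom eM.symm.toLinearMap)) A _ (a := rs'.length) (add_zero _)) ?_ ?_
    all_goals
      refine LinearMap.ext fun x => ?_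
      show (x.comp _ (add_zero _)).comp _ (add_zero _) = x
      rw [Ext.comp_assoc_of_third_deg_zero, Ext.mk₀_comp_mk₀]
      convert Ext.comp_mk₀_id x using 3
      exact ModuleCat.hom_ext (LinearMap.ext fun _ => by simp)
  rw [← eExt.length_eq, e.length_eq]
  -- the socle of the local quotient
  let QA := A ⧸ (Ideal.ofList rs' • ⊤ : Submodule A A)
  have hmem : ∀ z : A, (Submodule.Quotient.mk z : QA) = 0 ↔ z ∈ K.map ι := fun z => by
    rw [Submodule.Quotient.mk_eq_zero, smul_eq_mul, Ideal.mul_top, hKA]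
  have hinv : ∀ s : B, s ∉ P → ∃ t : B, s * t - 1 ∈ K := by
    intro s hs
    obtain ⟨t, p, hp, htp⟩ := Ideal.IsMaximal.exists_inv (inferInstance : P.IsMaximal) hs
    have hnil : IsNilpotent (Ideal.Quotient.mk K p) := ⟨N, by
      rw [← map_pow]; exact Ideal.Quotient.eq_zero_iff_mem.2 (hN (Ideal.pow_mem_pow hp N))⟩
    obtain ⟨v, hv⟩ := hnil.isUnit_one_sub.exists_left_inv
    obtain ⟨v, rfl⟩ := Ideal.Quotient.mk_surjective v
    refine ⟨v * t, Ideal.Quotient.eq.1 ?_⟩
    rw [map_mul, map_mul, map_one, ← hv, ← map_one (Ideal.Quotient.mk K), ← htp, map_add, map_mul]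
    ring
  have hback : ∀ x : B, ι x ∈ K.map ι → x ∈ K := by
    intro x hx
    obtain ⟨s, hs, hsx⟩ := (IsLocalization.algebraMap_mem_map_algebraMap_iff P.primeCompl A K x).1 hx
    obtain ⟨t, ht⟩ := hinv s hs
    rw [show x = t * (s * x) - (s * t - 1) * x by ring]
    exact sub_mem (Ideal.mul_mem_left _ _ hsx) (Ideal.mul_mem_right _ _ ht)
  have hlift : ∀ z : A, ∃ x : B, z - ι x ∈ K.map ι := by
    intro z
    obtain ⟨⟨x, s⟩, rfl⟩ := IsLocalization.mk'_surjective P.primeCompl z
    obtain ⟨t, ht⟩ := hinv s s.2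
    refine ⟨x * t, ?_⟩
    have hu := IsLocalization.map_units A s
    rw [← Ideal.mul_unit_mem_iff_mem (K.map ι) hu, sub_mul, IsLocalization.mk'_spec, ← map_mul, ← map_sub]
    refine Ideal.mem_map_of_mem _ ?_
    rw [show x - x * t * (s : B) = -(((s : B) * t - 1) * x) by ring]
    exact neg_mem (Ideal.mul_mem_right _ _ ht)
  have hKm : K.map ι ≤ maximalIdeal A := Ideal.map_le_iff_le_comap.2 fun w hw =>
    (IsLocalization.AtPrime.to_map_mem_maximal_iff A P w).2 (hKP hw)
  have hres : ∀ c : k, ∃ b ∈ B₀, residue A (ι b) = c := by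
    intro c
    obtain ⟨z, rfl⟩ := residue_surjective c
    obtain ⟨x, hx⟩ := hlift z
    obtain ⟨b, hb, hbx⟩ := hB₀ x
    refine ⟨b, hb, (Ideal.Quotient.eq.2 ?_).symm⟩
    rw [show z - ι b = (z - ι x) + ι (x - b) by rw [map_sub]; ring]
    exact add_mem (hKm hx) ((IsLocalization.AtPrime.to_map_mem_maximal_iff A P _).2 hbx)
  have hmax : ∀ z ∈ maximalIdeal A, ∀ i, (Submodule.Quotient.mk (z * ι (y i)) : QA) = 0 := by
    intro z hz i
    obtain ⟨x, hx⟩ := hlift z
    rw [hmem, show z * ι (y i) = (z - ι x) * ι (y i) + ι (x * y i) by rw [map_mul]; ring]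
    refine add_mem (Ideal.mul_mem_right _ _ hx) (Ideal.mem_map_of_mem _ (hy i x ?_))
    refine (IsLocalization.AtPrime.to_map_mem_maximal_iff A P x).1 ?_
    rw [show ι x = z - (z - ι x) by ring]
    exact sub_mem hz (hKm hx)
  let g : Fin r → (k →ₗ[A] QA) := fun i => Submodule.liftQ (maximalIdeal A)
    ((Submodule.mkQ _).comp (LinearMap.toSpanSingleton A A (ι (y i)))) fun z hz => hmax z hz i
  have hgres : ∀ i (z : A), g i (residue A z) = Submodule.Quotient.mk (z * ι (y i)) := fun i z => rfl
  let G : Fin r → (k →ₗ[A] (k →ₗ[A] QA)) := fun i => Submodule.liftQ (maximalIdeal A)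
    (LinearMap.toSpanSingleton A (k →ₗ[A] QA) (g i)) fun z hz => by
      rw [LinearMap.mem_ker, LinearMap.toSpanSingleton_apply]
      refine LinearMap.ext fun c => ?_
      obtain ⟨c, rfl⟩ := residue_surjective c
      rw [LinearMap.smul_apply, hgres]
      show (Submodule.Quotient.mk (z * (c * ι (y i))) : QA) = 0
      rw [← mul_assoc]
      exact hmax _ (Ideal.mul_mem_right _ _ hz) i
  let Φ : (Fin r → k) →ₗ[A] (k →ₗ[A] QA) := LinearMap.lsum A (fun _ => k) A G
  have hΦ : ∀ b : Fin r → B, Φ (fun i => residue A (ι (b i))) (residue A 1)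
      = Submodule.Quotient.mk (ι (∑ i, b i * y i)) := by
    intro b
    rw [map_sum, ← Submodule.mkQ_apply, map_sum]
    simp only [Φ, LinearMap.lsum_apply, LinearMap.coe_sum, Finset.sum_apply, LinearMap.comp_apply, LinearMap.proj_apply]
    refine Finset.sum_congr rfl fun i _ => ?_
    show (ι (b i) • g i) (residue A 1) = _
    rw [LinearMap.smul_apply, hgres, one_mul, map_mul]
    rfl
  have hΦbij : Function.Bijective Φ := by
    refine ⟨(injective_iff_map_eq_zero _).2 fun c hc => ?_, fun f => ?_⟩
    · choose b hb hbc using fun i => hres (c i)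
      have hceq : c = fun i => residue A (ι (b i)) := funext fun i => (hbc i).symm
      have h1 := hΦ b
      rw [← hceq, hc, LinearMap.zero_apply] at h1
      have h2 := hind b hb (hback _ ((hmem _).1 h1.symm))
      funext i
      rw [← hbc i]
      exact (residue_eq_zero_iff _).2 ((IsLocalization.AtPrime.to_map_mem_maximal_iff A P _).2 (h2 i))
    · obtain ⟨z, hz⟩ := Submodule.Quotient.mk_surjective _ (f (residue A 1))
      obtain ⟨x, hx⟩ := hlift z
      have hfx : f (residue A 1) = Submodule.Quotient.mk (ι x) := by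
        rw [← hz, ← sub_eq_zero, ← Submodule.Quotient.mk_sub, hmem]
        exact hx
      obtain ⟨c, hc⟩ := hspan x fun p hp => hback _ ((hmem _).1 (by
        rw [map_mul, ← smul_eq_mul (ι p), Submodule.Quotient.mk_smul, ← hfx, ← map_smul]
        have h0 : ι p • residue A (1 : A) = 0 := by
          rw [Algebra.smul_def, map_one, mul_one]
          exact (residue_eq_zero_iff _).2 ((IsLocalization.AtPrime.to_map_mem_maximal_iff A P _).2 hp)
        rw [h0, map_zero]))
      refine ⟨fun i => residue A (ι (c i)), LinearMap.ext fun w => ?_⟩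
      obtain ⟨w, rfl⟩ := residue_surjective w
      have hw1 : residue A w = w • residue A (1 : A) := by
        rw [Algebra.smul_def, map_one, mul_one]; rfl
      rw [hw1, map_smul, map_smul, hΦ, hfx]
      congr 1
      rw [← sub_eq_zero, ← Submodule.Quotient.mk_sub, hmem, ← map_sub]
      refine Ideal.mem_map_of_mem _ ?_
      rw [← neg_sub]
      exact neg_mem hc
  haveI : IsSimpleModule A k := (isSimpleModule_iff_quot_maximal).2 ⟨maximalIdeal A, inferInstance, ⟨LinearEquiv.refl A _⟩⟩
  rw [show Module.length A (k →ₗ[A] QA) = Module.length A (Fin r → k) from (LinearEquiv.ofBijective Φ hΦbij).length_eq.symm,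
    Module.length_pi, Module.length_eq_one, mul_one, ENat.card_eq_coe_fintype_card, Fintype.card_fin]

end Groth.Agent.GrGor
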